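import Mathlib
import Cfsg.Prelude.Def_Characters
import Cfsg.Agent.Lib.Characters.Basic

/-!
# Linear characters of a finite commutative group
-/

namespace Cfsg.Agent.BlocksChars.FrobNormalizer

open scoped ComplexConjugate
open Cfsg.Agent.Characters

variable {A : Type*} [Group A] [Finite A]

theorem card_dual (hA : IsMulCommutative A) : Nat.card (A →* ℂˣ) = Nat.card A := by
  letI : CommGroup A := { (inferInstance : Group A) with mul_comm := hA.is_comm.comm }
  exact CommGroup.card_monoidHom_of_hasEnoughRootsOfUnity A ℂ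

theorem finite_dual (hA : IsMulCommutative A) : Finite (A →* ℂˣ) :=
  Nat.finite_of_card_ne_zero (by rw [card_dual hA]; exact Nat.card_pos.ne')

theorem exists_dual_ne_one (hA : IsMulCommutative A) {a : A} (ha : a ≠ 1) :
    ∃ ψ : A →* ℂˣ, ψ a ≠ 1 := by
  letI : CommGroup A := { (inferInstance : Group A) with mul_comm := hA.is_comm.comm }
  exact CommGroup.exists_apply_ne_one_of_hasEnoughRootsOfUnity A ℂ ha

theorem sum_dual_apply [Fintype (A →* ℂˣ)] (hA : IsMulCommutative A) [DecidableEq A] (a : A) :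
    ∑ ψ : A →* ℂˣ, ((ψ a : ℂˣ) : ℂ) = if a = 1 then (Nat.card A : ℂ) else 0 := by
  split_ifs with ha
  · subst ha
    rw [← card_dual hA, Nat.card_eq_fintype_card]
    simp
  · obtain ⟨φ, hφ⟩ := exists_dual_ne_one hA ha
    have h : ((φ a : ℂˣ) : ℂ) * ∑ ψ : A →* ℂˣ, ((ψ a : ℂˣ) : ℂ) =
        ∑ ψ : A →* ℂˣ, ((ψ a : ℂˣ) : ℂ) := by
      rw [Finset.mul_sum]
      exact Fintype.sum_equiv (Equiv.mulLeft φ) _ _ fun ψ => by simp
    by_contra hne
    exact hφ (Units.ext ((mul_eq_right₀ hne).1 h))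

theorem sum_hom_apply [Fintype A] (ψ : A →* ℂˣ) [Decidable (ψ = 1)] :
    ∑ a : A, ((ψ a : ℂˣ) : ℂ) = if ψ = 1 then (Nat.card A : ℂ) else 0 := by
  split_ifs with h
  · subst h
    simp [Nat.card_eq_fintype_card]
  · refine sum_hom_units_eq_zero ((Units.coeHom ℂ).comp ψ) fun h' => h ?_
    exact MonoidHom.ext fun a => Units.ext (DFunLike.congr_fun h' a)

theorem conj_apply (ψ : A →* ℂˣ) (a : A) :
    conj ((ψ a : ℂˣ) : ℂ) = ((ψ⁻¹ a : ℂˣ) : ℂ) := by
  rw [← char_inv (isCharacter_linear ψ) a, map_inv]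
  rfl

/-- Inversion formula. -/
theorem fourier [Fintype A] [Fintype (A →* ℂˣ)] (hA : IsMulCommutative A) (f : A → ℂ) (a : A) :
    f a = ∑ ψ : A →* ℂˣ,
      ((Nat.card A : ℂ)⁻¹ * ∑ x : A, f x * ((ψ⁻¹ x : ℂˣ) : ℂ)) * ((ψ a : ℂˣ) : ℂ) := by
  classical
  simp only [Finset.mul_sum, Finset.sum_mul]
  rw [Finset.sum_comm, Finset.sum_eq_single a]
  · simp only [MonoidHom.inv_apply, Units.val_inv_eq_inv_val, mul_assoc,
      inv_mul_cancel₀ (Units.ne_zero _), mul_one, Finset.sum_const, Finset.card_univ, nsmul_eq_mul]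
    rw [← Nat.card_eq_fintype_card, card_dual hA, ← mul_assoc,
      mul_inv_cancel₀ (Nat.cast_ne_zero.2 Nat.card_pos.ne'), one_mul]
  · intro x _ hx
    have h : ∑ ψ : A →* ℂˣ, ((ψ (x⁻¹ * a) : ℂˣ) : ℂ) = 0 := by
      rw [sum_dual_apply hA, if_neg]
      rwa [inv_mul_eq_one]
    rw [← mul_zero ((Nat.card A : ℂ)⁻¹ * f x), ← h, Finset.mul_sum]
    refine Finset.sum_congr rfl fun ψ _ => ?_
    simp only [MonoidHom.inv_apply, map_mul, map_inv, Units.val_mul]
    ring
  · simp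

end Cfsg.Agent.BlocksChars.FrobNormalizer
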