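import Mathlib
import Cfsg.Prelude.Def_Blocks
import Cfsg.Agent.BlocksChars.SectionOrth
import Cfsg.Agent.Lib.Blocks.ThirdMainCor
import Cfsg.Agent.Lib.Blocks.SectionNorm
import Cfsg.Agent.Lib.Transfer.NormalPComplement
import Cfsg.Agent.BlocksChars.FrobNormalizer.Dual

/-!
# An abelian Sylow subgroup on which its normalizer acts as a Frobenius group
-/

set_option linter.style.haveILetI false

namespace Cfsg.Agent.BlocksChars.FrobNormalizer

open Cfsg.Agent.Characters Cfsg.Agent.Blocks
open scoped ComplexConjugate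

universe u

variable {G : Type u} [Group G] [Finite G] {p : ℕ}

/-- The automorphisms of `P` induced by its normalizer. -/
noncomputable def autP (P : Sylow p G) : Subgroup (MulAut (P : Subgroup G)) :=
  (Subgroup.normalizerMonoidHom (P : Subgroup G)).range

/-- The hypotheses on the normalizer of the Sylow subgroup. -/
structure Setting (P : Sylow p G) (m : ℕ) : Prop where
  comm : IsMulCommutative P
  relIndex : (Subgroup.centralizer ((P : Subgroup G) : Set G)).relIndex
    (Subgroup.normalizer ((P : Subgroup G) : Set G)) = m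
  frob : ∀ y : G, y ∈ (P : Subgroup G) → y ≠ 1 → Subgroup.centralizer ({y} : Set G) ⊓
    Subgroup.normalizer ((P : Subgroup G) : Set G) = Subgroup.centralizer ((P : Subgroup G) : Set G)

variable {P : Sylow p G} {m : ℕ}

theorem autP_apply {γ : MulAut (P : Subgroup G)} (hγ : γ ∈ autP P) :
    ∃ n ∈ Subgroup.normalizer ((P : Subgroup G) : Set G),
      ∀ y : (P : Subgroup G), (γ y : G) = n * y * n⁻¹ := by
  obtain ⟨n, rfl⟩ := hγ
  exact ⟨n, n.2, fun y => rfl⟩

theorem exists_autP {n : G} (hn : n ∈ Subgroup.normalizer ((P : Subgroup G) : Set G)) :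
    ∃ γ ∈ autP P, ∀ y : (P : Subgroup G), (γ y : G) = n * y * n⁻¹ :=
  ⟨_, ⟨⟨n, hn⟩, rfl⟩, fun _ => rfl⟩

theorem Setting.card_autP (h : Setting P m) : Nat.card (autP P) = m := by
  rw [autP, ← Subgroup.index_ker, Subgroup.normalizerMonoidHom_ker]
  exact h.relIndex

/-- The action is fixed point free. -/
theorem Setting.eq_one_of_fixed (h : Setting P m) {γ : MulAut (P : Subgroup G)} (hγ : γ ∈ autP P)
    {y : (P : Subgroup G)} (hy : y ≠ 1) (hfix : γ y = y) : γ = 1 := by
  obtain ⟨n, hn, hval⟩ := autP_apply hγ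
  have hc : n ∈ Subgroup.centralizer ((P : Subgroup G) : Set G) := by
    rw [← h.frob y y.2 (fun e => hy (Subtype.ext e))]
    refine ⟨Subgroup.mem_centralizer_singleton_iff.2 ?_, hn⟩
    have := congrArg (fun z : (P : Subgroup G) => (z : G)) hfix
    rw [hval] at this
    exact mul_inv_eq_iff_eq_mul.1 this
  refine MulEquiv.ext fun x => Subtype.ext ?_
  rw [hval, MulAut.one_apply, ← Subgroup.mem_centralizer_iff.1 hc (x : G) x.2, mul_inv_cancel_right]

theorem Setting.apply_injective (h : Setting P m) {y : (P : Subgroup G)} (hy : y ≠ 1) :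
    Function.Injective fun γ : autP P => (γ : MulAut (P : Subgroup G)) y := by
  intro a b hab
  have := h.eq_one_of_fixed ((autP P).mul_mem ((autP P).inv_mem b.2) a.2) hy (by
    show (b : MulAut (P : Subgroup G))⁻¹ ((a : MulAut (P : Subgroup G)) y) = y
    rw [show (a : MulAut (P : Subgroup G)) y = (b : MulAut (P : Subgroup G)) y from hab]
    exact (b : MulAut (P : Subgroup G)).symm_apply_apply y)
  exact Subtype.ext (inv_mul_eq_one.1 this).symm

/-- The action on the dual group is fixed point free as well. -/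
theorem Setting.eq_one_of_dual_fixed (h : Setting P m) {γ : MulAut (P : Subgroup G)}
    (hγ : γ ∈ autP P) (hne : γ ≠ 1) {ψ : (P : Subgroup G) →* ℂˣ}
    (hfix : ∀ y, ψ (γ y) = ψ y) : ψ = 1 := by
  have hcomm := h.comm.is_comm.comm
  let φ : (P : Subgroup G) →* (P : Subgroup G) :=
    { toFun := fun y => γ y * y⁻¹
      map_one' := by simp
      map_mul' := fun a b => by
        show γ (a * b) * (a * b)⁻¹ = γ a * a⁻¹ * (γ b * b⁻¹)
        rw [map_mul, mul_inv_rev, mul_assoc, mul_assoc]
        congr 1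
        rw [hcomm b⁻¹ a⁻¹, ← mul_assoc, hcomm (γ b) a⁻¹, mul_assoc] }
  have hinj : Function.Injective φ := by
    rw [← φ.ker_eq_bot_iff, Subgroup.eq_bot_iff_forall]
    intro y hy
    by_contra hy1
    exact hne (h.eq_one_of_fixed hγ hy1 (mul_inv_eq_one.1 (hy : γ y * y⁻¹ = 1)))
  refine MonoidHom.ext fun y => ?_
  obtain ⟨x, rfl⟩ := Finite.injective_iff_surjective.1 hinj y
  show ψ (γ x * x⁻¹) = 1
  rw [map_mul, map_inv, hfix, mul_inv_cancel]

theorem Setting.dual_injective (h : Setting P m) {ψ : (P : Subgroup G) →* ℂˣ} (hψ : ψ ≠ 1) :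
    Function.Injective fun γ : autP P =>
      ψ.comp (γ : MulAut (P : Subgroup G)).toMonoidHom := by
  intro a b hab
  by_contra hne
  refine hψ (h.eq_one_of_dual_fixed ((autP P).mul_mem a.2 ((autP P).inv_mem b.2))
    (fun e => hne (Subtype.ext (mul_inv_eq_one.1 e))) fun y => ?_)
  have := DFunLike.congr_fun hab ((b : MulAut (P : Subgroup G))⁻¹ y)
  show ψ ((a : MulAut (P : Subgroup G)) ((b : MulAut (P : Subgroup G))⁻¹ y)) = ψ y
  refine this.trans ?_
  show ψ ((b : MulAut (P : Subgroup G)) ((b : MulAut (P : Subgroup G))⁻¹ y)) = ψ y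
  rw [MulAut.apply_inv_self]

variable [Fact p.Prime]

/-- Burnside: fusion in `P` is controlled by the normalizer. -/
theorem Setting.fusion (h : Setting P m) {y z : (P : Subgroup G)} (hc : IsConj (y : G) (z : G)) :
    ∃ γ ∈ autP P, γ y = z := by
  haveI := h.comm
  obtain ⟨g, hg⟩ := isConj_iff.1 hc
  have hz : g⁻¹⁻¹ * (y : G) * g⁻¹ = (z : G) := by rw [inv_inv, hg]
  obtain ⟨n, hn, hn'⟩ := P.conj_eq_normalizer_conj_of_mem (y : G) g⁻¹ y.2 (hz ▸ z.2)
  obtain ⟨γ, hγ, hval⟩ := exists_autP (P := P) ((Subgroup.normalizer _).inv_mem hn)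
  refine ⟨γ, hγ, Subtype.ext ?_⟩
  rw [hval, inv_inv, ← hn', hz]

/-- The centralizer of a non-identity element of `P` is `p`-nilpotent. -/
theorem Setting.exists_complement (h : Setting P m) {y : (P : Subgroup G)} (hy : y ≠ 1) :
    ∃ K : Subgroup (Subgroup.centralizer ({(y : G)} : Set G)), K.Normal ∧ ¬ p ∣ Nat.card K ∧
      K.index = Nat.card (P : Subgroup G) ∧
      p ^ (Nat.card (Subgroup.centralizer ({(y : G)} : Set G))).factorization p =
        Nat.card (P : Subgroup G) ∧
      (∃ k : ℕ, K.index = p ^ k) ∧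
      ∀ x : Subgroup.centralizer ({(y : G)} : Set G), ¬ p ∣ orderOf x → x ∈ K := by
  have hp : p.Prime := Fact.out
  have hle : (P : Subgroup G) ≤ Subgroup.centralizer ({(y : G)} : Set G) := fun a ha =>
    Subgroup.mem_centralizer_singleton_iff.2
      (congrArg Subtype.val (h.comm.is_comm.comm (⟨a, ha⟩ : P) ⟨y, y.2⟩))
  set Q := P.subtype hle with hQ
  have hcardQ : Nat.card (Q : Subgroup (Subgroup.centralizer ({(y : G)} : Set G))) =
      Nat.card (P : Subgroup G) :=
    Nat.card_congr (Subgroup.subgroupOfEquivOfLe hle).toEquiv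
  have hnc : Subgroup.normalizer ((Q : Subgroup (Subgroup.centralizer ({(y : G)} : Set G))) :
      Set (Subgroup.centralizer ({(y : G)} : Set G))) ≤ Subgroup.centralizer
        ((Q : Subgroup (Subgroup.centralizer ({(y : G)} : Set G))) :
          Set (Subgroup.centralizer ({(y : G)} : Set G))) := by
    intro x hx
    have hxN : (x : G) ∈ Subgroup.normalizer ((P : Subgroup G) : Set G) := by
      rw [Subgroup.mem_normalizer_iff]
      intro a
      constructor
      · intro ha
        exact (Subgroup.mem_normalizer_iff.1 hx ⟨a, hle ha⟩).1 ha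
      · intro ha
        have hmem : a ∈ Subgroup.centralizer ({(y : G)} : Set G) := by
          have h1 := (Subgroup.centralizer ({(y : G)} : Set G)).mul_mem
            ((Subgroup.centralizer ({(y : G)} : Set G)).mul_mem
              ((Subgroup.centralizer ({(y : G)} : Set G)).inv_mem x.2) (hle ha)) x.2
          simpa [mul_assoc] using h1
        exact (Subgroup.mem_normalizer_iff.1 hx ⟨a, hmem⟩).2 ha
    have hxC : (x : G) ∈ Subgroup.centralizer ((P : Subgroup G) : Set G) := by
      rw [← h.frob y y.2 (fun e => hy (Subtype.ext e))]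
      exact ⟨x.2, hxN⟩
    exact Subgroup.mem_centralizer_iff.2 fun q hq =>
      Subtype.ext (Subgroup.mem_centralizer_iff.1 hxC (q : G) hq)
  obtain ⟨R, K, hKn, hK⟩ :=
    Cfsg.Agent.Transfer.NormalPComplement.hasNormalPComplement_of_normalizer_le_centralizer Q hnc
  haveI := hKn
  have hR : Nat.card (R : Subgroup (Subgroup.centralizer ({(y : G)} : Set G))) =
      Nat.card (P : Subgroup G) := by
    rw [← hcardQ, Sylow.card_eq_multiplicity, Sylow.card_eq_multiplicity]
  have hidx : K.index = Nat.card (P : Subgroup G) := by rw [hK.symm.index_eq_card, hR]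
  have hKp : ¬ p ∣ Nat.card K := by
    rw [← hK.index_eq_card]
    exact R.not_dvd_index
  obtain ⟨k, hk⟩ := IsPGroup.iff_card.1 P.2
  refine ⟨K, hKn, hKp, hidx, ?_, ⟨k, hidx.trans hk⟩, fun x hx => ?_⟩
  · rw [← hR, Sylow.card_eq_multiplicity]
  · rw [← QuotientGroup.eq_one_iff, ← orderOf_eq_one_iff]
    have h1 : orderOf (x : Subgroup.centralizer ({(y : G)} : Set G) ⧸ K) ∣ p ^ k := by
      rw [← hk, ← hidx, Subgroup.index_eq_card]
      exact orderOf_dvd_natCard _
    have h2 : orderOf (x : Subgroup.centralizer ({(y : G)} : Set G) ⧸ K) ∣ orderOf x :=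
      orderOf_map_dvd (QuotientGroup.mk' K) x
    exact Nat.eq_one_of_dvd_coprimes
      (((hp.coprime_iff_not_dvd).2 hx).pow_left k) h1 h2

variable {M : Ideal Cfsg.AlgInt}

/-- Members of the principal block are constant on the `p`-section of an element of `P`. -/
theorem Setting.value_eq (h : Setting P m) (hM : Cfsg.IsPModular p M) {χ : Cfsg.IrrCharacter G}
    (hχ : χ ∈ Cfsg.principalBlock M G) {y : (P : Subgroup G)} (hy : y ≠ 1) {z : G}
    (hz : Cfsg.IsPPart p z (y : G)) : (χ : G → ℂ) z = (χ : G → ℂ) (y : G) := by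
  obtain ⟨x, rfl, hc, hord, hx⟩ := hz
  obtain ⟨K, hKn, hKp, -, -, -, hmem⟩ := h.exists_complement hy
  haveI := hKn
  exact value_mul_core hM hord hχ hKp
    (hmem ⟨x, Subgroup.mem_centralizer_singleton_iff.2 hc.eq.symm⟩ (by rwa [Subgroup.orderOf_mk]))

/-- The norm of the column of an element of `P` in the principal block. -/
theorem Setting.norm_column (h : Setting P m) (hM : Cfsg.IsPModular p M) {y : (P : Subgroup G)}
    (hy : y ≠ 1) :
    ∑ᶠ χ ∈ Cfsg.principalBlock M G, (χ : G → ℂ) (y : G) * conj ((χ : G → ℂ) (y : G)) =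
      (Nat.card (P : Subgroup G) : ℂ) := by
  classical
  obtain ⟨K, hKn, hKp, -, hfac, hidx, -⟩ := h.exists_complement hy
  haveI := hKn
  haveI := Fintype.ofFinite (Cfsg.IrrCharacter (Subgroup.centralizer ({(y : G)} : Set G)))
  rw [SectionOrth.norm_principal_pElement hM (SectionOrth.exists_orderOf_eq P.2 y)]
  have h1 := norm_principal_pnilpotent hM hKp hidx
    (y := (1 : Subgroup.centralizer ({(y : G)} : Set G))) (by
      rw [orderOf_one]; exact (Fact.out : p.Prime).not_dvd_one)
  rw [hfac] at h1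
  have h2 : ∀ ψ : Cfsg.IrrCharacter (Subgroup.centralizer ({(y : G)} : Set G)),
      ‖(ψ : Subgroup.centralizer ({(y : G)} : Set G) → ℂ) 1‖ ^ 2 =
        ((Cfsg.charDegree (ψ : Subgroup.centralizer ({(y : G)} : Set G) → ℂ) ^ 2 : ℕ) : ℝ) :=
    fun ψ => by rw [← charDegree_cast, Complex.norm_natCast, Nat.cast_pow]
  simp only [h2] at h1
  rw [finsum_mem_def, finsum_eq_sum_of_fintype] at h1 ⊢
  simp only [Set.indicator_apply] at h1 ⊢
  norm_cast
  exact_mod_cast h1

end Cfsg.Agent.BlocksChars.FrobNormalizer
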