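import Mathlib
import Cfsg.Agent.BlocksChars.FrobNormalizer.Setting
import Cfsg.Agent.Lib.Characters.Inner
import Cfsg.Agent.Lib.Blocks.Orthogonality

/-!
# The coefficients of the exceptional class functions in the principal block
-/

set_option linter.style.haveILetI false
set_option linter.unusedSectionVars false

namespace Cfsg.Agent.BlocksChars.FrobNormalizer

open Cfsg.Agent.Characters Cfsg.Agent.Blocks
open scoped ComplexConjugate

universe u

variable {G : Type u} [Group G] [Finite G] {p : ℕ} {P : Sylow p G} {m : ℕ}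
  {M : Ideal Cfsg.AlgInt}

/-- The orbit of a linear character of `P` under the normalizer. -/
noncomputable def orb (ψ : (P : Subgroup G) →* ℂˣ) : Finset ((P : Subgroup G) →* ℂˣ) :=
  (Set.finite_range fun γ : autP P =>
    ψ.comp (γ : MulAut (P : Subgroup G)).toMonoidHom).toFinset

theorem mem_orb {ψ ψ' : (P : Subgroup G) →* ℂˣ} :
    ψ' ∈ orb ψ ↔ ∃ γ ∈ autP P, ∀ w, ψ' w = ψ (γ w) := by
  rw [orb, Set.Finite.mem_toFinset, Set.mem_range]
  constructor
  · rintro ⟨⟨γ, hγ⟩, rfl⟩; exact ⟨γ, hγ, fun w => rfl⟩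
  · rintro ⟨γ, hγ, h⟩; exact ⟨⟨γ, hγ⟩, MonoidHom.ext fun w => (h w).symm⟩

theorem mem_orb_iff {ψ ψ' : (P : Subgroup G) →* ℂˣ} :
    ψ' ∈ orb ψ ↔ ∃ n : G, n ∈ Subgroup.normalizer ((P : Subgroup G) : Set G) ∧
      ∀ w w' : (P : Subgroup G), (w' : G) = n * w * n⁻¹ → ψ' w' = ψ w := by
  rw [mem_orb]
  constructor
  · rintro ⟨γ, hγ, h⟩
    obtain ⟨n, hn, hval⟩ := autP_apply ((autP P).inv_mem hγ)
    refine ⟨n, hn, fun w w' hw => ?_⟩
    rw [show w' = γ⁻¹ w from Subtype.ext (hw.trans (hval w).symm), h, MulAut.apply_inv_self]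
  · rintro ⟨n, hn, h⟩
    obtain ⟨γ, hγ, hval⟩ := exists_autP (P := P) hn
    refine ⟨γ⁻¹, (autP P).inv_mem hγ, fun w => ?_⟩
    refine h (γ⁻¹ w) w ?_
    rw [← hval, MulAut.apply_inv_self]

theorem mem_orb_self (ψ : (P : Subgroup G) →* ℂˣ) : ψ ∈ orb ψ :=
  mem_orb.2 ⟨1, (autP P).one_mem, fun _ => rfl⟩

theorem orb_eq {ψ ψ' : (P : Subgroup G) →* ℂˣ} (h : ψ' ∈ orb ψ) : orb ψ' = orb ψ := by
  obtain ⟨γ, hγ, hval⟩ := mem_orb.1 h
  ext φ
  rw [mem_orb, mem_orb]
  constructor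
  · rintro ⟨δ, hδ, hφ⟩
    exact ⟨γ * δ, (autP P).mul_mem hγ hδ, fun w => by rw [hφ, hval, MulAut.mul_apply]⟩
  · rintro ⟨δ, hδ, hφ⟩
    refine ⟨γ⁻¹ * δ, (autP P).mul_mem ((autP P).inv_mem hγ) hδ, fun w => ?_⟩
    rw [hφ, hval, MulAut.mul_apply, MulAut.apply_inv_self]

theorem ne_one_of_mem_orb {ψ ψ' : (P : Subgroup G) →* ℂˣ} (hψ : ψ ≠ 1) (h : ψ' ∈ orb ψ) :
    ψ' ≠ 1 := by
  obtain ⟨γ, -, hval⟩ := mem_orb.1 h
  intro e
  refine hψ (MonoidHom.ext fun w => ?_)
  have := hval (γ⁻¹ w)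
  rw [MulAut.apply_inv_self, e] at this
  exact this.symm

theorem Setting.card_orb (h : Setting P m) {ψ : (P : Subgroup G) →* ℂˣ} (hψ : ψ ≠ 1) :
    (orb ψ).card = m := by
  rw [orb, ← Nat.card_eq_card_finite_toFinset, Nat.card_range_of_injective (h.dual_injective hψ),
    h.card_autP]

/-- The coefficient of the member `χ` at the exceptional class function belonging to `ψ`. -/
theorem exists_coeff (P : Sylow p G) [Fintype (P : Subgroup G)] :
    ∃ b : ((P : Subgroup G) →* ℂˣ) → Cfsg.IrrCharacter G → ℤ, ∀ ψ χ,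
      (b ψ χ : ℂ) = (Nat.card (P : Subgroup G) : ℂ)⁻¹ *
        ∑ y : (P : Subgroup G), (χ : G → ℂ) y * (((ψ⁻¹ y : ℂˣ) : ℂ) - 1) := by
  have key : ∀ (ψ : (P : Subgroup G) →* ℂˣ) (χ : Cfsg.IrrCharacter G), ∃ z : ℤ,
      (z : ℂ) = (Nat.card (P : Subgroup G) : ℂ)⁻¹ *
        ∑ y : (P : Subgroup G), (χ : G → ℂ) y * (((ψ⁻¹ y : ℂˣ) : ℂ) - 1) := by
    intro ψ χ
    have hχ := isCharacter_restrict (P : Subgroup G) (irr_isCharacter χ)
    obtain ⟨a, ha⟩ := classInner_char_nat hχ (isCharacter_linear ψ)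
    obtain ⟨c, hc⟩ := classInner_char_nat hχ (isCharacter_linear (1 : (P : Subgroup G) →* ℂˣ))
    refine ⟨(a : ℤ) - c, ?_⟩
    push_cast
    rw [← ha, ← hc, Cfsg.classInner, Cfsg.classInner, ← mul_sub, ← Finset.sum_sub_distrib]
    refine congrArg _ (Finset.sum_congr rfl fun y _ => ?_)
    rw [conj_apply ψ y]
    simp [mul_sub]
  choose b hb using key
  exact ⟨b, hb⟩

variable [Fact p.Prime] [Fintype (P : Subgroup G)]
  {b : ((P : Subgroup G) →* ℂˣ) → Cfsg.IrrCharacter G → ℤ}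
  (hb : ∀ ψ χ, (b ψ χ : ℂ) = (Nat.card (P : Subgroup G) : ℂ)⁻¹ *
    ∑ y : (P : Subgroup G), (χ : G → ℂ) y * (((ψ⁻¹ y : ℂˣ) : ℂ) - 1))
include hb

theorem coeff_orb {ψ ψ' : (P : Subgroup G) →* ℂˣ} (h : ψ' ∈ orb ψ) (χ : Cfsg.IrrCharacter G) :
    b ψ' χ = b ψ χ := by
  obtain ⟨γ, hγ, hval⟩ := mem_orb.1 h
  obtain ⟨n, -, hn⟩ := autP_apply hγ
  apply Int.cast_injective (α := ℂ)
  rw [hb, hb]
  refine congrArg _ (Fintype.sum_equiv γ.toEquiv _ _ fun y => ?_)
  show (χ : G → ℂ) y * (((ψ'⁻¹ y : ℂˣ) : ℂ) - 1) =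
    (χ : G → ℂ) (γ y) * (((ψ⁻¹ (γ y) : ℂˣ) : ℂ) - 1)
  rw [hn, irr_isClassFunction χ, MonoidHom.inv_apply, MonoidHom.inv_apply, hval]

/-- The columns at `p`-regular elements are orthogonal to the coefficient vectors. -/
theorem sum_coeff_regular (hM : Cfsg.IsPModular p M) (ψ : (P : Subgroup G) →* ℂˣ) {g : G}
    (hg : ¬ p ∣ orderOf g) :
    ∑ᶠ χ ∈ Cfsg.principalBlock M G, (b ψ χ : ℂ) * (χ : G → ℂ) g = 0 := by
  classical
  haveI := Fintype.ofFinite (Cfsg.IrrCharacter G)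
  rw [finsum_mem_def, finsum_eq_sum_of_fintype]
  simp only [Set.indicator_apply, hb, Finset.mul_sum, Finset.sum_mul]
  rw [show (∑ χ : Cfsg.IrrCharacter G, if χ ∈ Cfsg.principalBlock M G then
      ∑ y : (P : Subgroup G), (Nat.card (P : Subgroup G) : ℂ)⁻¹ *
        ((χ : G → ℂ) y * (((ψ⁻¹ y : ℂˣ) : ℂ) - 1)) * (χ : G → ℂ) g else 0) =
    ∑ y : (P : Subgroup G), (Nat.card (P : Subgroup G) : ℂ)⁻¹ * (((ψ⁻¹ y : ℂˣ) : ℂ) - 1) *
      ∑ χ : Cfsg.IrrCharacter G,
        (if χ ∈ Cfsg.principalBlock M G then (χ : G → ℂ) y * (χ : G → ℂ) g else 0) by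
    simp only [Finset.mul_sum, mul_ite, mul_zero]
    rw [Finset.sum_comm]
    refine Finset.sum_congr rfl fun χ _ => ?_
    split_ifs with hχ
    · exact Finset.sum_congr rfl fun y _ => by ring
    · simp]
  refine Finset.sum_eq_zero fun y _ => ?_
  rcases eq_or_ne y 1 with rfl | hy
  · simp
  rw [mul_eq_zero]
  refine Or.inr ?_
  have h0 := sum_block_mul_conj_eq_zero hM (intEl_blockIdem hM (isPBlock_principal M G))
    (SectionOrth.isPPart_self hM.1 (SectionOrth.exists_orderOf_eq P.2 y))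
    (isPPart_one (g := g⁻¹) hM.1 (by rwa [orderOf_inv]))
    (fun hc => hy (Subtype.ext (isConj_one_left.1 hc)))
  rw [finsum_mem_def, finsum_eq_sum_of_fintype] at h0
  simp only [Set.indicator_apply, char_inv (irr_isCharacter _), Complex.conj_conj] at h0
  exact h0

/-- The Gram matrix of the coefficient vectors. -/
theorem gram (h : Setting P m) (hM : Cfsg.IsPModular p M) {ψ φ : (P : Subgroup G) →* ℂˣ}
    (hψ : ψ ≠ 1) (hφ : φ ≠ 1) [Decidable (φ ∈ orb ψ)] :
    ∑ᶠ χ ∈ Cfsg.principalBlock M G, b ψ χ * b φ χ = (if φ ∈ orb ψ then 1 else 0) + (m : ℤ) := by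
  classical
  haveI := Fintype.ofFinite (Cfsg.IrrCharacter G)
  haveI := Fintype.ofFinite (autP P)
  set B := Cfsg.principalBlock M G with hB
  apply Int.cast_injective (α := ℂ)
  rw [finsum_mem_def, finsum_eq_sum_of_fintype]
  simp only [Set.indicator_apply]
  push_cast
  set q : ℂ := (Nat.card (P : Subgroup G) : ℂ) with hqdef
  have hq : q ≠ 0 := Nat.cast_ne_zero.2 Nat.card_pos.ne'
  set S : ↥(P : Subgroup G) → ↥(P : Subgroup G) → ℂ := fun x y =>
    ∑ χ : Cfsg.IrrCharacter G, if χ ∈ B then (χ : G → ℂ) x * conj ((χ : G → ℂ) y) else 0 with hS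
  have hSval : ∀ x y : (P : Subgroup G), x ≠ 1 → y ≠ 1 →
      S x y = if ∃ γ : autP P, (γ : MulAut (P : Subgroup G)) x = y then q else 0 := by
    intro x y hx hy
    have hSf : S x y = ∑ᶠ χ ∈ B, (χ : G → ℂ) x * conj ((χ : G → ℂ) y) := by
      rw [finsum_mem_def, finsum_eq_sum_of_fintype]
      simp only [hS, Set.indicator_apply]
    rw [hSf]
    split_ifs with hc
    · obtain ⟨⟨γ, hγ⟩, hxy⟩ := hc
      obtain ⟨n, -, hn⟩ := autP_apply hγ
      have hval : ∀ χ : Cfsg.IrrCharacter G, (χ : G → ℂ) (y : G) = (χ : G → ℂ) (x : G) := fun χ => by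
        rw [← hxy, hn, irr_isClassFunction χ]
      simp only [hval]
      exact h.norm_column hM hx
    · refine SectionOrth.sum_pElement_eq_zero hM (isPBlock_principal M G)
        (SectionOrth.exists_orderOf_eq P.2 x) (SectionOrth.exists_orderOf_eq P.2 y) fun hcj => hc ?_
      obtain ⟨γ, hγ, e⟩ := h.fusion hcj
      exact ⟨⟨γ, hγ⟩, e⟩
  set A : ↥(P : Subgroup G) → ℂ := fun x => ((ψ⁻¹ x : ℂˣ) : ℂ) - 1 with hA
  set C : ↥(P : Subgroup G) → ℂ := fun y => ((φ y : ℂˣ) : ℂ) - 1 with hC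
  have hb' : ∀ χ : Cfsg.IrrCharacter G,
      (b φ χ : ℂ) = q⁻¹ * ∑ y : (P : Subgroup G), conj ((χ : G → ℂ) y) * C y := by
    intro χ
    rw [← map_intCast (starRingEnd ℂ) (b φ χ), hb, map_mul, map_sum, map_inv₀, map_natCast]
    refine congrArg _ (Finset.sum_congr rfl fun y _ => ?_)
    rw [map_mul, map_sub, map_one, conj_apply]
    simp [hC]
  have hexp : (∑ χ : Cfsg.IrrCharacter G, if χ ∈ B then (b ψ χ : ℂ) * (b φ χ : ℂ) else 0) =
      q⁻¹ * q⁻¹ * ∑ x : (P : Subgroup G), A x * ∑ y : (P : Subgroup G), C y * S x y := by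
    simp only [hS, Finset.mul_sum, mul_ite, mul_zero]
    conv_rhs => arg 2; ext x; rw [Finset.sum_comm]
    rw [Finset.sum_comm]
    refine Finset.sum_congr rfl fun χ _ => ?_
    split_ifs
    · rw [hb, hb', Finset.mul_sum, Finset.mul_sum, Finset.sum_mul]
      refine Finset.sum_congr rfl fun x _ => ?_
      rw [Finset.mul_sum]
      refine Finset.sum_congr rfl fun y _ => ?_
      ring
    · simp
  have hin : ∀ x : (P : Subgroup G), x ≠ 1 → ∑ y : (P : Subgroup G), C y * S x y =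
      q * ∑ γ : autP P, C ((γ : MulAut (P : Subgroup G)) x) := by
    intro x hx
    have himg : ∑ γ : autP P, C ((γ : MulAut (P : Subgroup G)) x) =
        ∑ y ∈ Finset.univ.image (fun γ : autP P => (γ : MulAut (P : Subgroup G)) x), C y := by
      rw [Finset.sum_image fun a _ b _ e => h.apply_injective hx e]
    rw [himg, Finset.mul_sum, ← Finset.sum_subset (Finset.subset_univ
      (Finset.univ.image fun γ : autP P => (γ : MulAut (P : Subgroup G)) x)) fun y _ hy => ?_]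
    · refine Finset.sum_congr rfl fun y hy => ?_
      obtain ⟨γ, -, hγy⟩ := Finset.mem_image.1 hy
      rw [hSval x y hx (fun e => hx (by
        rw [e] at hγy
        exact (γ : MulAut (P : Subgroup G)).map_eq_one_iff.1 hγy)), if_pos ⟨γ, hγy⟩, mul_comm]
    · rcases eq_or_ne y 1 with rfl | hy1
      · simp [hC]
      · rw [hSval x y hx hy1, if_neg (fun ⟨γ, e⟩ =>
          hy (Finset.mem_image.2 ⟨γ, Finset.mem_univ _, e⟩)), mul_zero]
  have hout : ∀ x : (P : Subgroup G), A x * ∑ y : (P : Subgroup G), C y * S x y =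
      A x * (q * ∑ γ : autP P, C ((γ : MulAut (P : Subgroup G)) x)) := by
    intro x
    rcases eq_or_ne x 1 with rfl | hx
    · simp [hA]
    · rw [hin x hx]
  have hpair : ∀ γ : autP P, ∑ x : (P : Subgroup G), A x * C ((γ : MulAut (P : Subgroup G)) x) =
      q * ((if φ.comp (γ : MulAut (P : Subgroup G)).toMonoidHom = ψ then 1 else 0) + 1) := by
    intro γ
    set φ' := φ.comp (γ : MulAut (P : Subgroup G)).toMonoidHom with hφ'
    have hφ'1 : φ' ≠ 1 := ne_one_of_mem_orb hφ (mem_orb.2 ⟨γ, γ.2, fun _ => rfl⟩)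
    calc ∑ x : (P : Subgroup G), A x * C ((γ : MulAut (P : Subgroup G)) x)
        = ∑ x : (P : Subgroup G), ((((ψ⁻¹ * φ') x : ℂˣ) : ℂ) - ((ψ⁻¹ x : ℂˣ) : ℂ)
            - ((φ' x : ℂˣ) : ℂ) + 1) := by
          refine Finset.sum_congr rfl fun x _ => ?_
          simp only [hA, hC, MonoidHom.mul_apply, Units.val_mul]
          show (((ψ⁻¹ x : ℂˣ) : ℂ) - 1) * (((φ' x : ℂˣ) : ℂ) - 1) = _
          ring
      _ = q * ((if φ' = ψ then 1 else 0) + 1) := by
          rw [Finset.sum_add_distrib, Finset.sum_sub_distrib, Finset.sum_sub_distrib,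
            sum_hom_apply, sum_hom_apply ψ⁻¹, sum_hom_apply φ', if_neg (show ψ⁻¹ ≠ 1 from fun e => hψ (MonoidHom.ext fun x => by simpa using DFunLike.congr_fun e x)),
            if_neg hφ'1, Finset.sum_const, Finset.card_univ, ← Nat.card_eq_fintype_card,
            nsmul_eq_mul, mul_one]
          by_cases he : φ' = ψ
          · rw [if_pos he, if_pos (by rw [he]; exact MonoidHom.ext fun x => by simp)]; ring
          · rw [if_neg he, if_neg fun e => he (MonoidHom.ext fun x => (inv_mul_eq_one.1 (by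
              simpa using DFunLike.congr_fun e x)).symm)]
            ring
  rw [hexp, Finset.sum_congr rfl fun x _ => hout x]
  calc q⁻¹ * q⁻¹ * ∑ x : (P : Subgroup G),
        A x * (q * ∑ γ : autP P, C ((γ : MulAut (P : Subgroup G)) x))
      = q⁻¹ * ∑ γ : autP P, ∑ x : (P : Subgroup G), A x * C ((γ : MulAut (P : Subgroup G)) x) := by
        rw [Finset.sum_comm (γ := autP P), Finset.mul_sum, Finset.mul_sum]
        refine Finset.sum_congr rfl fun x _ => ?_
        rw [← Finset.mul_sum]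
        field_simp
    _ = ∑ γ : autP P, ((if φ.comp (γ : MulAut (P : Subgroup G)).toMonoidHom = ψ then (1 : ℂ) else 0)
          + 1) := by
        rw [Finset.mul_sum]
        exact Finset.sum_congr rfl fun γ _ => by rw [hpair, ← mul_assoc, inv_mul_cancel₀ hq, one_mul]
    _ = (if φ ∈ orb ψ then (1 : ℂ) else 0) + (m : ℂ) := by
        rw [Finset.sum_add_distrib, Finset.sum_const, Finset.card_univ, ← Nat.card_eq_fintype_card,
          h.card_autP, nsmul_eq_mul, mul_one]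
        congr 1
        split_ifs with hmem
        · have hmem' : ψ ∈ orb φ := by rw [orb_eq hmem]; exact mem_orb_self ψ
          obtain ⟨γ, hγ, hval⟩ := mem_orb.1 hmem'
          have hγeq : φ.comp γ.toMonoidHom = ψ := MonoidHom.ext fun w => (hval w).symm
          rw [Finset.sum_eq_single ⟨γ, hγ⟩]
          · rw [if_pos hγeq]
          · intro δ _ hne
            rw [if_neg fun e => hne (h.dual_injective hφ (e.trans hγeq.symm))]
          · simp
        · refine Finset.sum_eq_zero fun δ _ => if_neg fun e => hmem ?_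
          have hmem' : ψ ∈ orb φ := mem_orb.2 ⟨δ, δ.2, fun w => (DFunLike.congr_fun e w).symm⟩
          rw [orb_eq hmem']
          exact mem_orb_self φ
    _ = _ := by push_cast; rfl

/-- The values of a member of the principal block on `P` in terms of its coefficients. -/
theorem value_sum [Fintype ((P : Subgroup G) →* ℂˣ)] (h : Setting P m) (χ : Cfsg.IrrCharacter G)
    {y : (P : Subgroup G)} (hy : y ≠ 1) :
    (χ : G → ℂ) y = ∑ ψ : (P : Subgroup G) →* ℂˣ, (b ψ χ : ℂ) * ((ψ y : ℂˣ) : ℂ) := by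
  classical
  have h0 : ∑ ψ : (P : Subgroup G) →* ℂˣ, ((ψ y : ℂˣ) : ℂ) = 0 := by
    rw [sum_dual_apply h.comm, if_neg hy]
  rw [fourier h.comm (fun y : (P : Subgroup G) => (χ : G → ℂ) y) y]
  have hb2 : ∀ ψ : (P : Subgroup G) →* ℂˣ, (Nat.card (P : Subgroup G) : ℂ)⁻¹ *
      ∑ x : (P : Subgroup G), (χ : G → ℂ) x * ((ψ⁻¹ x : ℂˣ) : ℂ) = (b ψ χ : ℂ) +
        (Nat.card (P : Subgroup G) : ℂ)⁻¹ * ∑ x : (P : Subgroup G), (χ : G → ℂ) x := by
    intro ψ
    rw [hb, ← mul_add, ← Finset.sum_add_distrib]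
    exact congrArg _ (Finset.sum_congr rfl fun x _ => by ring)
  simp only [hb2, add_mul, Finset.sum_add_distrib]
  rw [← Finset.mul_sum, h0, mul_zero, add_zero]

end Cfsg.Agent.BlocksChars.FrobNormalizer
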