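import Mathlib

/-!
# Families of integer vectors whose pairwise differences are roots
-/

namespace Cfsg.Agent.BlocksChars.FrobNormalizer

/-- An integer vector of norm two orthogonal to a positive vector is a difference of two unit
vectors. -/
theorem root_form {κ : Type*} [Fintype κ] [DecidableEq κ] (v : κ → ℤ) (deg : κ → ℕ)
    (hdeg : ∀ k, 0 < deg k) (h2 : ∑ k, v k * v k = 2) (h0 : ∑ k, v k * (deg k : ℤ) = 0) :
    ∃ a c, a ≠ c ∧ ∀ k, v k = (if k = a then 1 else 0) - (if k = c then 1 else 0) := by
  have hpos : ∃ a, 0 < v a := by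
    by_contra h
    push Not at h
    have hz : ∀ k, v k * (deg k : ℤ) = 0 := fun k =>
      (Finset.sum_eq_zero_iff_of_nonpos fun k _ =>
        mul_nonpos_of_nonpos_of_nonneg (h k) (by positivity)).1 h0 k (Finset.mem_univ k)
    have hv : ∀ k, v k = 0 := fun k => by
      rcases mul_eq_zero.1 (hz k) with h' | h'
      · exact h'
      · have := hdeg k
        omega
    simp [hv] at h2
  have hneg : ∃ c, v c < 0 := by
    by_contra h
    push Not at h
    have hz : ∀ k, v k * (deg k : ℤ) = 0 := fun k =>
      (Finset.sum_eq_zero_iff_of_nonneg fun k _ => mul_nonneg (h k) (by positivity)).1 h0 k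
        (Finset.mem_univ k)
    obtain ⟨a, ha⟩ := hpos
    rcases mul_eq_zero.1 (hz a) with h' | h'
    · omega
    · have := hdeg a
      omega
  obtain ⟨a, ha⟩ := hpos
  obtain ⟨c, hc⟩ := hneg
  have hac : a ≠ c := fun h => by subst h; omega
  have h1a : 1 ≤ v a * v a := by nlinarith
  have h1c : 1 ≤ v c * v c := by nlinarith
  have hsplit := Finset.add_sum_erase Finset.univ (fun k => v k * v k) (Finset.mem_univ a)
  have hsplit2 := Finset.add_sum_erase (Finset.univ.erase a) (fun k => v k * v k)
    (Finset.mem_erase.2 ⟨Ne.symm hac, Finset.mem_univ c⟩)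
  have hrest : 0 ≤ ∑ k ∈ (Finset.univ.erase a).erase c, v k * v k :=
    Finset.sum_nonneg fun k _ => mul_self_nonneg _
  have hrest0 : ∑ k ∈ (Finset.univ.erase a).erase c, v k * v k = 0 := by linarith
  have hva : v a = 1 := by
    have h : v a * v a = 1 := by linarith
    rcases mul_self_eq_one_iff.1 h with h' | h' <;> omega
  have hvc : v c = -1 := by
    have h : v c * v c = 1 := by linarith
    rcases mul_self_eq_one_iff.1 h with h' | h' <;> omega
  refine ⟨a, c, hac, fun k => ?_⟩
  by_cases hka : k = a
  · subst hka; simp [hac, hva]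
  by_cases hkc : k = c
  · subst hkc; simp [hka, hvc]
  · have := (Finset.sum_eq_zero_iff_of_nonneg fun k _ => mul_self_nonneg (v k)).1 hrest0 k
      (by simp [hka, hkc])
    simp [hka, hkc, mul_self_eq_zero.1 this]

theorem sum_root_mul {κ : Type*} [Fintype κ] [DecidableEq κ] (a c a' c' : κ) :
    ∑ k, ((if k = a then (1 : ℤ) else 0) - (if k = c then 1 else 0)) *
        ((if k = a' then 1 else 0) - (if k = c' then 1 else 0)) =
      (if a = a' then 1 else 0) - (if a = c' then 1 else 0)
        - ((if c = a' then 1 else 0) - (if c = c' then 1 else 0)) := by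
  simp [sub_mul, Finset.sum_sub_distrib]

/-- A family of integer vectors with Gram matrix `1 + m J`, all orthogonal to a positive vector,
consists of a common vector moved by a signed unit vector. -/
theorem exists_form {ι κ : Type*} [Fintype ι] [Fintype κ] [DecidableEq ι] [DecidableEq κ]
    (hι : 2 ≤ Fintype.card ι) (b : ι → κ → ℤ) (deg : κ → ℕ) (hdeg : ∀ k, 0 < deg k) (m : ℤ)
    (hgram : ∀ i j, ∑ k, b i k * b j k = (if i = j then 1 else 0) + m)
    (hz : ∀ i, ∑ k, b i k * (deg k : ℤ) = 0) :
    ∃ (u : κ → ℤ) (δ : ℤ) (f : ι → κ) (d : ℤ), (δ = 1 ∨ δ = -1) ∧ Function.Injective f ∧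
      (∀ i k, b i k = u k + if k = f i then δ else 0) ∧ (∀ i, u (f i) = d) ∧
      ∑ k, u k * u k + 2 * δ * d = m := by
  obtain ⟨i0⟩ : Nonempty ι := Fintype.card_pos_iff.1 (by omega)
  obtain ⟨i1, hi1⟩ := Fintype.exists_ne_of_one_lt_card (by omega : 1 < Fintype.card ι) i0
  have hroot : ∀ i, i ≠ i0 → ∃ a c, a ≠ c ∧
      ∀ k, b i k - b i0 k = (if k = a then 1 else 0) - (if k = c then 1 else 0) := by
    intro i hi
    refine root_form _ deg hdeg ?_ ?_
    · simp only [sub_mul, mul_sub, Finset.sum_sub_distrib, hgram, if_pos, if_neg hi,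
        if_neg (Ne.symm hi)]
      ring
    · simp only [sub_mul, Finset.sum_sub_distrib, hz, sub_self]
  choose a c hac heq using hroot
  have hinner : ∀ i j (hi : i ≠ i0) (hj : j ≠ i0), i ≠ j →
      (a i hi = a j hj ↔ c i hi ≠ c j hj) := by
    intro i j hi hj hij
    have h : ∑ k, (b i k - b i0 k) * (b j k - b i0 k) = 1 := by
      simp only [sub_mul, mul_sub, Finset.sum_sub_distrib, hgram, if_pos, if_neg hi, if_neg hij,
        if_neg (Ne.symm hj)]
      ring
    simp only [heq i hi, heq j hj, sum_root_mul] at h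
    have h1 := hac i hi
    have h2 := hac j hj
    by_cases e1 : a i hi = a j hj <;> by_cases e2 : c i hi = c j hj <;>
      simp only [e1, e2, if_true, if_false, ne_eq, not_true, not_false_iff, iff_true, iff_false,
        true_iff, false_iff] at h ⊢
    · rw [if_neg h2, if_neg (Ne.symm h2)] at h
      omega
    · split_ifs at h <;> omega
  have hcommon : (∀ i hi, a i hi = a i1 hi1) ∨ (∀ i hi, c i hi = c i1 hi1) := by
    by_contra hcon
    push Not at hcon
    obtain ⟨⟨i, hi, hai⟩, j, hj, hcj⟩ := hcon
    have hci : c i hi = c i1 hi1 := by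
      by_contra h
      exact hai ((hinner i i1 hi hi1 (fun e => by subst e; exact hai rfl)).2 h)
    have haj : a j hj = a i1 hi1 :=
      (hinner j i1 hj hi1 (fun e => by subst e; exact hcj rfl)).2 hcj
    have hij : i ≠ j := fun e => by subst e; exact hcj hci
    by_cases h : a i hi = a j hj
    · exact hai (h.trans haj)
    · exact h ((hinner i j hi hj hij).2 (by rw [hci]; exact Ne.symm hcj))
  suffices hs : ∃ (u : κ → ℤ) (δ : ℤ) (f : ι → κ), (δ = 1 ∨ δ = -1) ∧ Function.Injective f ∧
      ∀ i k, b i k = u k + if k = f i then δ else 0 by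
    obtain ⟨u, δ, f, hδ, hf, hb⟩ := hs
    have hn : ∀ i, ∑ k, u k * u k + 2 * δ * u (f i) = m := by
      intro i
      have h := hgram i i
      simp only [hb i, add_mul, mul_add, ite_mul, mul_ite, zero_mul, mul_zero, Finset.sum_add_distrib,
        Finset.sum_ite_eq', Finset.mem_univ, if_true] at h
      rcases hδ with rfl | rfl <;> linarith
    exact ⟨u, δ, f, u (f i0), hδ, hf, hb, fun i => by
      rcases hδ with rfl | rfl <;> linarith [hn i, hn i0], hn i0⟩
  rcases hcommon with ha | hc
  · refine ⟨fun k => b i0 k + if k = a i1 hi1 then 1 else 0, -1,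
      fun i => if hi : i = i0 then a i1 hi1 else c i hi, Or.inr rfl, fun i j h => ?_, fun i k => ?_⟩
    · dsimp only at h
      by_cases hi : i = i0 <;> by_cases hj : j = i0
      · rw [hi, hj]
      · rw [dif_pos hi, dif_neg hj, ← ha j hj] at h
        exact absurd h (hac j hj)
      · rw [dif_neg hi, dif_pos hj, ← ha i hi] at h
        exact absurd h.symm (hac i hi)
      · rw [dif_neg hi, dif_neg hj] at h
        by_contra hij
        exact (hinner i j hi hj hij).1 ((ha i hi).trans (ha j hj).symm) h
    · dsimp only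
      by_cases hi : i = i0
      · subst hi
        simp only [dif_pos rfl]
        split_ifs <;> ring
      · simp only [dif_neg hi, ← ha i hi]
        have := heq i hi k
        split_ifs at this ⊢ <;> linarith
  · refine ⟨fun k => b i0 k - if k = c i1 hi1 then 1 else 0, 1,
      fun i => if hi : i = i0 then c i1 hi1 else a i hi, Or.inl rfl, fun i j h => ?_, fun i k => ?_⟩
    · dsimp only at h
      by_cases hi : i = i0 <;> by_cases hj : j = i0
      · rw [hi, hj]
      · rw [dif_pos hi, dif_neg hj, ← hc j hj] at h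
        exact absurd h.symm (hac j hj)
      · rw [dif_neg hi, dif_pos hj, ← hc i hi] at h
        exact absurd h (hac i hi)
      · rw [dif_neg hi, dif_neg hj] at h
        by_contra hij
        exact absurd ((hc i hi).trans (hc j hj).symm) ((hinner i j hi hj hij).1 h)
    · dsimp only
      by_cases hi : i = i0
      · subst hi
        simp only [dif_pos rfl]
        split_ifs <;> ring
      · simp only [dif_neg hi, ← hc i hi]
        have := heq i hi k
        split_ifs at this ⊢ <;> linarith

end Cfsg.Agent.BlocksChars.FrobNormalizer
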