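import Mathlib
import Cfsg.Agent.BlocksChars.FrobNormalizer.Roots
import Cfsg.Agent.BlocksChars.FrobNormalizer.Coeff
import Cfsg.Agent.Lib.Blocks.LocalRing
import Cfsg.Agent.Lib.Characters.Kernel

/-!
# The exceptional characters of the principal block
-/

set_option linter.style.haveILetI false
set_option linter.unusedSectionVars false

namespace Cfsg.Agent.BlocksChars.FrobNormalizer

open Cfsg.Agent.Characters Cfsg.Agent.Blocks
open scoped ComplexConjugate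

universe u

variable {G : Type u} [Group G] [Finite G] {p : ℕ} [Fact p.Prime] {P : Sylow p G} {m : ℕ}
  {M : Ideal Cfsg.AlgInt}

/-- A member of the principal block does not vanish on an element of the Sylow subgroup. -/
theorem Setting.value_ne_zero (h : Setting P m) (hM : Cfsg.IsPModular p M)
    {χ : Cfsg.IrrCharacter G} (hχ : χ ∈ Cfsg.principalBlock M G) (y : (P : Subgroup G)) :
    (χ : G → ℂ) y ≠ 0 := by
  intro h0
  have hb := (hχ : Cfsg.SameBlock M (fun _ : G => (1 : ℂ)) (χ : G → ℂ)) (y : G)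
  simp only [Cfsg.centralChar, h0, mul_zero, zero_div, sub_zero, mul_one, div_one] at hb
  have hle : (P : Subgroup G) ≤ Subgroup.centralizer ({(y : G)} : Set G) := fun a ha =>
    Subgroup.mem_centralizer_singleton_iff.2
      (congrArg Subtype.val (h.comm.is_comm.comm (⟨a, ha⟩ : P) ⟨y, y.2⟩))
  exact P.not_dvd_index (((ideal_natCast_iff hM _).1 hb).trans (Subgroup.index_dvd_of_le hle))

/-- What the principal block looks like: the non-exceptional characters `X` with their constant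
values `a`, and one exceptional character for each orbit of non-principal linear characters. -/
theorem Setting.structure_principal (h : Setting P m) (hM : Cfsg.IsPModular p M) (hm : 0 < m)
    (hm2 : m + 1 < Nat.card (P : Subgroup G)) :
    ∃ (X Y : Set (Cfsg.IrrCharacter G)) (a : Cfsg.IrrCharacter G → ℤ) (d δ : ℤ)
      (ζ : ((P : Subgroup G) →* ℂˣ) → Cfsg.IrrCharacter G),
      Cfsg.principalBlock M G = X ∪ Y ∧ Disjoint X Y ∧
      Nat.card Y = (Nat.card (P : Subgroup G) - 1) / m ∧ Nat.card X ≤ m ∧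
      trivIrr G ∈ X ∧ a (trivIrr G) = 1 ∧ (δ = 1 ∨ δ = -1) ∧
      (∀ χ ∈ X, a χ ≠ 0 ∧ ∀ z y : G, Cfsg.IsPPart p z y → y ∈ (P : Subgroup G) → y ≠ 1 →
        (χ : G → ℂ) z = (a χ : ℂ)) ∧
      (∀ ψ, ψ ≠ 1 → ζ ψ ∈ Y) ∧ (∀ η ∈ Y, ∃ ψ, ψ ≠ 1 ∧ ζ ψ = η) ∧
      (∀ ψ ψ', ψ ≠ 1 → ψ' ∈ orb ψ → ζ ψ' = ζ ψ) ∧
      (∀ ψ ψ', ψ ≠ 1 → ψ' ≠ 1 → ζ ψ' = ζ ψ → ψ' ∈ orb ψ) ∧
      (∀ ψ, ψ ≠ 1 → ∀ (z : G) (y : (P : Subgroup G)), Cfsg.IsPPart p z (y : G) → (y : G) ≠ 1 →
        (ζ ψ : G → ℂ) z = (d : ℂ) + (δ : ℂ) * ∑ ψ' ∈ orb ψ, ((ψ' y : ℂˣ) : ℂ)) ∧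
      ((d - δ) ^ 2 + ((Nat.card (P : Subgroup G) - 1) / m - 1 : ℤ) * d ^ 2 +
        ∑ᶠ χ ∈ X, a χ ^ 2 = (m : ℤ) + 1) ∧
      (∀ η ∈ Y, ∀ η' ∈ Y, ∀ g : G, ¬ p ∣ orderOf g → (η : G → ℂ) g = (η' : G → ℂ) g) ∧
      ∀ η ∈ Y, ∀ g : G, ¬ p ∣ orderOf g →
        ((((Nat.card (P : Subgroup G) - 1) / m : ℕ) : ℂ) * d - δ) * (η : G → ℂ) g +
          ∑ᶠ χ ∈ X, (a χ : ℂ) * (χ : G → ℂ) g = 0 := by
  classical
  haveI := finite_dual h.comm
  haveI := Fintype.ofFinite ((P : Subgroup G) →* ℂˣ)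
  haveI := Fintype.ofFinite (P : Subgroup G)
  haveI := Fintype.ofFinite (Cfsg.IrrCharacter G)
  set B := Cfsg.principalBlock M G with hB
  obtain ⟨b, hb⟩ := exists_coeff P
  -- the orbits
  set E : Finset ((P : Subgroup G) →* ℂˣ) := Finset.univ.erase 1 with hE
  set Os := E.image orb with hOs
  have hfib : ∀ S ∈ Os, (E.filter fun ψ => orb ψ = S).card = m := by
    intro S hS
    obtain ⟨ψ, hψ, rfl⟩ := Finset.mem_image.1 hS
    have hψ1 : ψ ≠ 1 := (Finset.mem_erase.1 hψ).1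
    rw [← h.card_orb hψ1]
    refine congrArg Finset.card (Finset.ext fun φ => ?_)
    rw [Finset.mem_filter]
    refine ⟨fun hφ => hφ.2 ▸ mem_orb_self φ, fun hφ =>
      ⟨Finset.mem_erase.2 ⟨ne_one_of_mem_orb hψ1 hφ, Finset.mem_univ _⟩, orb_eq hφ⟩⟩
  have hcardE : E.card = Nat.card (P : Subgroup G) - 1 := by
    rw [hE, Finset.card_erase_of_mem (Finset.mem_univ _), Finset.card_univ,
      ← Nat.card_eq_fintype_card, card_dual h.comm]
  have hr : Os.card * m = Nat.card (P : Subgroup G) - 1 := by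
    rw [← hcardE, Finset.card_eq_sum_card_image orb E, ← hOs, Finset.sum_congr rfl hfib,
      Finset.sum_const, smul_eq_mul]
  have hrdiv : (Nat.card (P : Subgroup G) - 1) / m = Os.card := by
    rw [← hr, Nat.mul_div_cancel _ hm]
  have hr2 : 2 ≤ Os.card := by
    by_contra hlt
    have := Nat.mul_le_mul_right m (Nat.lt_succ_iff.1 (not_le.1 hlt))
    omega
  have hrep : ∀ S : Os, ∃ ψ, ψ ≠ 1 ∧ orb ψ = S.1 := fun S => by
    obtain ⟨ψ, hψ, e⟩ := Finset.mem_image.1 S.2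
    exact ⟨ψ, (Finset.mem_erase.1 hψ).1, e⟩
  choose rep hrep1 hrepeq using hrep
  -- the vectors
  let deg : {χ : Cfsg.IrrCharacter G // χ ∈ B} → ℕ := fun k => Cfsg.charDegree (k.1 : G → ℂ)
  have hgram : ∀ i j : Os, ∑ k : {χ : Cfsg.IrrCharacter G // χ ∈ B},
      b (rep i) k.1 * b (rep j) k.1 = (if i = j then 1 else 0) + (m : ℤ) := by
    intro i j
    have hg := gram hb h hM (hrep1 i) (hrep1 j)
    rw [finsum_mem_eq_finite_toFinset_sum _ (Set.toFinite _)] at hg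
    rw [← Finset.sum_subtype (Set.toFinite B).toFinset (fun χ => Set.Finite.mem_toFinset _)
      (fun χ => b (rep i) χ * b (rep j) χ)]
    refine hg.trans ?_
    congr 1
    refine if_congr ⟨fun hmem => ?_, fun e => e ▸ mem_orb_self _⟩ rfl rfl
    exact Subtype.ext (((hrepeq i).symm.trans (orb_eq hmem).symm).trans (hrepeq j))
  have hreg : ∀ (ψ : (P : Subgroup G) →* ℂˣ) (g : G), ¬ p ∣ orderOf g →
      ∑ k : {χ : Cfsg.IrrCharacter G // χ ∈ B}, (b ψ k.1 : ℂ) * (k.1 : G → ℂ) g = 0 := by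
    intro ψ g hg
    have h0 := sum_coeff_regular hb hM ψ hg
    rw [finsum_mem_eq_finite_toFinset_sum _ (Set.toFinite _)] at h0
    rwa [← Finset.sum_subtype (Set.toFinite B).toFinset (fun χ => Set.Finite.mem_toFinset _)
      (fun χ => (b ψ χ : ℂ) * (χ : G → ℂ) g)]
  have hone : ¬ p ∣ orderOf (1 : G) := by
    rw [orderOf_one]; exact (Fact.out : p.Prime).not_dvd_one
  have hz : ∀ i : Os, ∑ k : {χ : Cfsg.IrrCharacter G // χ ∈ B},
      b (rep i) k.1 * (deg k : ℤ) = 0 := by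
    intro i
    apply Int.cast_injective (α := ℂ)
    push_cast
    simp only [deg, charDegree_cast]
    exact hreg (rep i) 1 hone
  obtain ⟨u, δ, f, d₀, hδ, hf, hbu, hud, hnorm⟩ := exists_form
    (by rw [Fintype.card_coe]; exact hr2) (fun i k => b (rep i) k.1) deg
    (fun k => charDegree_pos k.1) m hgram hz
  have hcls : ∀ ψ : (P : Subgroup G) →* ℂˣ, ψ ≠ 1 → orb ψ ∈ Os := fun ψ hψ =>
    Finset.mem_image_of_mem _ (Finset.mem_erase.2 ⟨hψ, Finset.mem_univ _⟩)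
  have hbψ : ∀ (ψ : (P : Subgroup G) →* ℂˣ) (hψ : ψ ≠ 1) (k : {χ // χ ∈ B}),
      b ψ k.1 = u k + if k = f ⟨orb ψ, hcls ψ hψ⟩ then δ else 0 := by
    intro ψ hψ k
    rw [← hbu, coeff_orb hb (ψ := rep ⟨orb ψ, hcls ψ hψ⟩) (by rw [hrepeq]; exact mem_orb_self ψ)]
  -- values
  have hval : ∀ (k : {χ // χ ∈ B}) (y : (P : Subgroup G)), y ≠ 1 →
      (k.1 : G → ℂ) y = -(u k : ℂ) + (δ : ℂ) * ∑ ψ : (P : Subgroup G) →* ℂˣ,
        if hψ : ψ ≠ 1 then (if k = f ⟨orb ψ, hcls ψ hψ⟩ then ((ψ y : ℂˣ) : ℂ) else 0) else 0 := by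
    intro k y hy
    have hs := sum_dual_apply h.comm y
    rw [if_neg hy, ← Finset.add_sum_erase _ _ (Finset.mem_univ (1 : (P : Subgroup G) →* ℂˣ)),
      MonoidHom.one_apply, Units.val_one] at hs
    rw [value_sum hb h k.1 hy, Finset.mul_sum,
      ← Finset.add_sum_erase _ _ (Finset.mem_univ (1 : (P : Subgroup G) →* ℂˣ))]
    conv_rhs => rw [← Finset.add_sum_erase _ _ (Finset.mem_univ (1 : (P : Subgroup G) →* ℂˣ))]
    rw [dif_neg (not_not.2 rfl), mul_zero, zero_add]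
    have hb1 : (b 1 k.1 : ℂ) = 0 := by simp [hb]
    rw [hb1, zero_mul, zero_add,
      show -(u k : ℂ) = (u k : ℂ) * ∑ ψ ∈ E, ((ψ y : ℂˣ) : ℂ) by linear_combination (-(u k : ℂ)) * hs,
      Finset.mul_sum, ← Finset.sum_add_distrib]
    refine Finset.sum_congr rfl fun ψ hψ => ?_
    have hψ1 : ψ ≠ 1 := (Finset.mem_erase.1 hψ).1
    rw [dif_pos hψ1, hbψ ψ hψ1 k]
    split_ifs <;> push_cast <;> ring
  -- the sets
  have hrinj : Function.Injective fun i : Os => (f i).1 := fun i j e => hf (Subtype.ext e)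
  set Y : Set (Cfsg.IrrCharacter G) := Set.range fun i : Os => (f i).1 with hY
  have hYB : Y ⊆ B := by rintro _ ⟨i, rfl⟩; exact (f i).2
  set X : Set (Cfsg.IrrCharacter G) := B \ Y with hX
  set a : Cfsg.IrrCharacter G → ℤ := fun χ => if hχ : χ ∈ B then -(u ⟨χ, hχ⟩) else 0 with ha
  set ζ : ((P : Subgroup G) →* ℂˣ) → Cfsg.IrrCharacter G := fun ψ =>
    if hψ : ψ ≠ 1 then (f ⟨orb ψ, hcls ψ hψ⟩).1 else trivIrr G with hζ
  have hζv : ∀ ψ (hψ : ψ ≠ 1), ζ ψ = (f ⟨orb ψ, hcls ψ hψ⟩).1 := fun ψ hψ => dif_pos hψ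
  have hXval : ∀ χ (hχ : χ ∈ X), a χ = -(u ⟨χ, hχ.1⟩) := fun χ hχ => dif_pos hχ.1
  have hvalX : ∀ χ ∈ X, ∀ y : (P : Subgroup G), y ≠ 1 → (χ : G → ℂ) y = (a χ : ℂ) := by
    intro χ hχ y hy
    rw [hval ⟨χ, hχ.1⟩ y hy, hXval χ hχ, Finset.sum_eq_zero, mul_zero, add_zero, Int.cast_neg]
    intro ψ _
    split_ifs with hψ e
    · exact absurd ⟨_, (congrArg Subtype.val e).symm⟩ hχ.2
    · rfl
    · rfl
  have hBmem : trivIrr G ∈ B := trivIrr_mem_principal hM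
  have htriv : ∀ ψ : (P : Subgroup G) →* ℂˣ, ψ ≠ 1 → b ψ (trivIrr G) = -1 := by
    intro ψ hψ
    apply Int.cast_injective (α := ℂ)
    rw [hb]
    simp only [show ((trivIrr G : Cfsg.IrrCharacter G) : G → ℂ) = fun _ => 1 from rfl, one_mul,
      Finset.sum_sub_distrib, sum_hom_apply ψ⁻¹,
      if_neg (show ψ⁻¹ ≠ 1 from fun e => hψ (MonoidHom.ext fun x => by
        simpa using DFunLike.congr_fun e x)), Finset.sum_const, Finset.card_univ, nsmul_eq_mul,
      mul_one, ← Nat.card_eq_fintype_card]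
    push_cast
    have : (Nat.card (P : Subgroup G) : ℂ) ≠ 0 := Nat.cast_ne_zero.2 Nat.card_pos.ne'
    field_simp
    ring
  obtain ⟨i0⟩ : Nonempty Os := Fintype.card_pos_iff.1 (by rw [Fintype.card_coe]; omega)
  have htX : trivIrr G ∈ X := by
    refine ⟨hBmem, ?_⟩
    rintro ⟨i, hi⟩
    obtain ⟨j, hji⟩ := Fintype.exists_ne_of_one_lt_card
      (show 1 < Fintype.card Os by rw [Fintype.card_coe]; omega) i
    have e1 := hbu i ⟨_, hBmem⟩
    have e2 := hbu j ⟨_, hBmem⟩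
    simp only [htriv _ (hrep1 _)] at e1 e2
    rw [if_pos (Subtype.ext hi.symm)] at e1
    rw [if_neg fun e => hji (hf (e.symm.trans (Subtype.ext hi.symm)))] at e2
    rcases hδ with rfl | rfl <;> omega
  have hatriv : a (trivIrr G) = 1 := by
    rw [hXval _ htX]
    have e1 := hbu i0 ⟨_, hBmem⟩
    simp only [htriv _ (hrep1 _)] at e1
    rw [if_neg fun e => htX.2 ⟨i0, (congrArg Subtype.val e).symm⟩] at e1
    omega
  have hane : ∀ χ ∈ X, a χ ≠ 0 := by
    intro χ hχ h0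
    obtain ⟨y, hy⟩ : ∃ y : (P : Subgroup G), y ≠ 1 := by
      haveI : Nontrivial (P : Subgroup G) := Finite.one_lt_card_iff_nontrivial.1 (by omega)
      exact exists_ne 1
    refine h.value_ne_zero hM hχ.1 y ?_
    rw [hvalX χ hχ y hy, h0, Int.cast_zero]
  -- sums over the block
  have hsplit : ∀ {R : Type} [AddCommMonoid R] (F : {χ // χ ∈ B} → R) (F' : Cfsg.IrrCharacter G → R),
      (∀ k, F k = F' k.1) → ∑ k, F k = ∑ᶠ χ ∈ X, F' χ + ∑ i : Os, F (f i) := by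
    intro R _ F F' hF
    rw [← Finset.sum_add_sum_compl (Finset.univ.image f) F, Finset.sum_image fun i _ j _ e => hf e,
      add_comm]
    congr 1
    rw [finsum_mem_eq_finite_toFinset_sum _ (Set.toFinite _)]
    refine Finset.sum_bij (fun k _ => k.1) (fun k hk => ?_) (fun k _ l _ e => Subtype.ext e)
      (fun χ hχ => ?_) fun k _ => hF k
    · rw [Set.Finite.mem_toFinset]
      refine ⟨k.2, fun ⟨i, hi⟩ => ?_⟩
      exact Finset.mem_compl.1 hk (Finset.mem_image.2 ⟨i, Finset.mem_univ _, Subtype.ext hi⟩)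
    · rw [Set.Finite.mem_toFinset] at hχ
      refine ⟨⟨χ, hχ.1⟩, Finset.mem_compl.2 fun hk => ?_, rfl⟩
      obtain ⟨i, -, hi⟩ := Finset.mem_image.1 hk
      exact hχ.2 ⟨i, congrArg Subtype.val hi⟩
  have hcardY : Nat.card Y = Os.card := by
    rw [hY, Nat.card_range_of_injective hrinj, Nat.card_eq_fintype_card, Fintype.card_coe]
  have hnorm' : ∑ᶠ χ ∈ X, a χ ^ 2 + (Os.card : ℤ) * d₀ ^ 2 + 2 * δ * d₀ = m := by
    rw [← hnorm, hsplit (fun k => u k * u k) (fun χ => a χ ^ 2)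
      (fun k => by simp only [ha, dif_pos k.2]; ring)]
    simp only [hud, Finset.sum_const, Finset.card_univ, Fintype.card_coe, nsmul_eq_mul]
    ring
  have hrq : ((Nat.card (P : Subgroup G) - 1) / m : ℤ) = (Os.card : ℤ) := by
    rw [← hrdiv, Int.natCast_div, Nat.cast_sub (Nat.card_pos), Nat.cast_one]
  have hmain : (-d₀ - δ) ^ 2 + ((Os.card : ℤ) - 1) * (-d₀) ^ 2 + ∑ᶠ χ ∈ X, a χ ^ 2 = (m : ℤ) + 1 := by
    rcases hδ with rfl | rfl <;> linarith [hnorm']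
  have hcardX : Nat.card X ≤ m := by
    have hpos : 1 ≤ (-d₀ - δ) ^ 2 + ((Os.card : ℤ) - 1) * (-d₀) ^ 2 := by
      have hc : (1 : ℤ) ≤ (Os.card : ℤ) - 1 := by omega
      rcases eq_or_ne d₀ 0 with h0 | h0
      · rw [h0]; rcases hδ with rfl | rfl <;> norm_num
      · have h1 : 1 ≤ (-d₀) ^ 2 := by
          have := mul_self_pos.2 h0
          nlinarith
        nlinarith [sq_nonneg (-d₀ - δ)]
    have hle : (Nat.card X : ℤ) ≤ ∑ᶠ χ ∈ X, a χ ^ 2 := by
      rw [finsum_mem_eq_finite_toFinset_sum _ (Set.toFinite _),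
        Nat.card_eq_card_finite_toFinset (Set.toFinite X), Finset.card_eq_sum_ones, Nat.cast_sum,
        Nat.cast_one]
      refine Finset.sum_le_sum fun χ hχ => ?_
      have h1 : a χ ^ 2 ≠ 0 := pow_ne_zero _ (hane χ ((Set.Finite.mem_toFinset _).1 hχ))
      have h2 : 0 ≤ a χ ^ 2 := sq_nonneg _
      omega
    omega
  have hlin : ∀ (i : Os) (g : G), ¬ p ∣ orderOf g → (∑ k, (u k : ℂ) * (k.1 : G → ℂ) g) +
      (δ : ℂ) * ((f i).1 : G → ℂ) g = 0 := by
    intro i g hg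
    have h0 := hreg (rep i) g hg
    simp only [fun k => hbu i k, Int.cast_add, add_mul, Finset.sum_add_distrib] at h0
    rw [← h0]
    congr 1
    rw [Finset.sum_eq_single (f i) (fun k _ hk => by rw [if_neg hk, Int.cast_zero, zero_mul])
      (fun hk => absurd (Finset.mem_univ _) hk), if_pos rfl]
  have heqreg : ∀ (i j : Os) (g : G), ¬ p ∣ orderOf g →
      ((f i).1 : G → ℂ) g = ((f j).1 : G → ℂ) g := by
    intro i j g hg
    have h1 := hlin i g hg
    have h2 := hlin j g hg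
    rcases hδ with rfl | rfl <;> push_cast at h1 h2
    · linear_combination h1 - h2
    · linear_combination h2 - h1
  refine ⟨X, Y, a, -d₀, δ, ζ, (Set.sdiff_union_of_subset hYB).symm, Set.disjoint_sdiff_left,
    hcardY.trans hrdiv.symm, hcardX, htX, hatriv, hδ, fun χ hχ => ⟨hane χ hχ, ?_⟩,
    fun ψ hψ => ⟨_, (hζv ψ hψ).symm⟩, ?_, ?_, ?_, ?_, ?_, ?_, ?_⟩
  · intro z y hz hyP hy1
    rw [← hvalX χ hχ ⟨y, hyP⟩ fun e => hy1 (congrArg Subtype.val e)]
    exact h.value_eq hM hχ.1 (y := ⟨y, hyP⟩) (fun e => hy1 (congrArg Subtype.val e)) hz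
  · rintro _ ⟨i, rfl⟩
    refine ⟨rep i, hrep1 i, (hζv _ (hrep1 i)).trans ?_⟩
    simp only [hrepeq]
  · intro ψ ψ' hψ hmem
    rw [hζv ψ hψ, hζv ψ' (ne_one_of_mem_orb hψ hmem)]
    simp only [orb_eq hmem]
  · intro ψ ψ' hψ hψ' e
    rw [hζv ψ hψ, hζv ψ' hψ'] at e
    have : orb ψ' = orb ψ := congrArg Subtype.val (hrinj e)
    rw [← this]
    exact mem_orb_self ψ'
  · intro ψ hψ z y hz hy
    have hy' : y ≠ 1 := fun e => hy (by rw [e]; rfl)
    rw [hζv ψ hψ, h.value_eq hM (f _).2 hy' hz, hval _ y hy', hud, Int.cast_neg]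
    congr 2
    refine (Finset.sum_subset (Finset.subset_univ (orb ψ)) fun φ _ hφ => ?_).symm.trans
      (Finset.sum_congr rfl fun φ hφ => ?_)
    · split_ifs with hφ1 e
      · refine absurd ?_ hφ
        have : orb ψ = orb φ := congrArg Subtype.val (hf e)
        rw [this]
        exact mem_orb_self φ
      · rfl
      · rfl
    · rw [dif_pos (ne_one_of_mem_orb hψ hφ), if_pos]
      exact congrArg f (Subtype.ext (orb_eq hφ).symm)
  · rw [hrq]; exact hmain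
  · rintro _ ⟨i, rfl⟩ _ ⟨j, rfl⟩ g hg
    exact heqreg i j g hg
  · rintro _ ⟨i, rfl⟩ g hg
    have h0 := hlin i g hg
    rw [hsplit (fun k => (u k : ℂ) * (k.1 : G → ℂ) g) (fun χ => -((a χ : ℂ) * (χ : G → ℂ) g))
      (fun k => by simp [ha, dif_pos k.2])] at h0
    simp only [hud, fun j => heqreg j i g hg, Finset.sum_const, Finset.card_univ, Fintype.card_coe,
      nsmul_eq_mul, finsum_mem_eq_finite_toFinset_sum _ (Set.toFinite X), Finset.sum_neg_distrib]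
      at h0
    rw [hrdiv, finsum_mem_eq_finite_toFinset_sum _ (Set.toFinite X)]
    push_cast
    linear_combination -h0

end Cfsg.Agent.BlocksChars.FrobNormalizer
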