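import Mathlib
import Cfsg.Agent.BlocksChars.FrobNormalizer.Main

/-!
# An abelian Sylow subgroup with a normalizer of index three over the centralizer
-/

set_option linter.style.haveILetI false
set_option linter.unusedSectionVars false

namespace Cfsg.Agent.BlocksChars.FrobNormalizer

open Cfsg.Agent.Characters Cfsg.Agent.Blocks
open scoped ComplexConjugate

universe u

variable {G : Type u} [Group G] [Finite G] {p : ℕ} [Fact p.Prime] {P : Sylow p G} {m : ℕ}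
  {M : Ideal Cfsg.AlgInt}

/-- The members of the principal block when the normalizer has index three over the centralizer. -/
structure ThreeData (P : Sylow p G) (M : Ideal Cfsg.AlgInt)
    (X Y : Set (Cfsg.IrrCharacter G)) (a : Cfsg.IrrCharacter G → ℤ) (δ : ℤ)
    (ζ : ((P : Subgroup G) →* ℂˣ) → Cfsg.IrrCharacter G) : Prop where
  block : Cfsg.principalBlock M G = X ∪ Y
  disj : Disjoint X Y
  cardX : Nat.card X = 3
  cardY : Nat.card Y = (Nat.card (P : Subgroup G) - 1) / 3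
  triv_mem : trivIrr G ∈ X
  a_triv : a (trivIrr G) = 1
  sign : δ = 1 ∨ δ = -1
  a_sign : ∀ χ ∈ X, a χ = 1 ∨ a χ = -1
  valueX : ∀ χ ∈ X, ∀ z y : G, Cfsg.IsPPart p z y → y ∈ (P : Subgroup G) → y ≠ 1 →
    (χ : G → ℂ) z = (a χ : ℂ)
  zeta_mem : ∀ ψ, ψ ≠ 1 → ζ ψ ∈ Y
  zeta_surj : ∀ η ∈ Y, ∃ ψ, ψ ≠ 1 ∧ ζ ψ = η
  zeta_orb : ∀ ψ ψ', ψ ≠ 1 → ψ' ∈ orb ψ → ζ ψ' = ζ ψ
  zeta_inj : ∀ ψ ψ', ψ ≠ 1 → ψ' ≠ 1 → ζ ψ' = ζ ψ → ψ' ∈ orb ψ
  valueY : ∀ ψ, ψ ≠ 1 → ∀ (z : G) (y : (P : Subgroup G)), Cfsg.IsPPart p z (y : G) → (y : G) ≠ 1 →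
    (ζ ψ : G → ℂ) z = (δ : ℂ) * ∑ ψ' ∈ orb ψ, ((ψ' y : ℂˣ) : ℂ)
  regular_eq : ∀ η ∈ Y, ∀ η' ∈ Y, ∀ g : G, ¬ p ∣ orderOf g → (η : G → ℂ) g = (η' : G → ℂ) g
  linear : ∀ η ∈ Y, ∀ g : G, ¬ p ∣ orderOf g →
    ∑ᶠ χ ∈ X, (a χ : ℂ) * (χ : G → ℂ) g = (δ : ℂ) * (η : G → ℂ) g

theorem Setting.three_data (h : Setting P 3) (hM : Cfsg.IsPModular p M)
    (hm2 : 3 + 1 < Nat.card (P : Subgroup G)) :
    ∃ X Y a δ ζ, ThreeData P M X Y a δ ζ := by
  classical
  haveI := finite_dual h.comm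
  haveI := Fintype.ofFinite ((P : Subgroup G) →* ℂˣ)
  haveI := Fintype.ofFinite (Cfsg.IrrCharacter G)
  obtain ⟨X, Y, a, d, δ, ζ, hB, hdisj, hY, -, htriv, hat, hδ, hval, hζY, hζs, hζo, hζi, hζv, hnorm,
    hreg, hlin⟩ := h.structure_principal hM (by norm_num) hm2
  set r := (Nat.card (P : Subgroup G) - 1) / 3 with hr
  set A := ∑ᶠ χ ∈ X, a χ ^ 2 with hA
  have hA' : A = ∑ χ ∈ (Set.toFinite X).toFinset, a χ ^ 2 :=
    finsum_mem_eq_finite_toFinset_sum _ _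
  have hone : ∀ χ ∈ (Set.toFinite X).toFinset, 1 ≤ a χ ^ 2 := fun χ hχ => by
    have h1 : a χ ^ 2 ≠ 0 := pow_ne_zero _ (hval χ ((Set.Finite.mem_toFinset _).1 hχ)).1
    have h2 : 0 ≤ a χ ^ 2 := sq_nonneg _
    omega
  have hcardA : (Nat.card X : ℤ) ≤ A := by
    rw [hA', Nat.card_eq_card_finite_toFinset (Set.toFinite X), Finset.card_eq_sum_ones,
      Nat.cast_sum, Nat.cast_one]
    exact Finset.sum_le_sum hone
  have hXpos : 0 < Nat.card X := by
    haveI : Nonempty X := ⟨⟨_, htriv⟩⟩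
    exact Nat.card_pos
  -- `#P - 1` is a multiple of three
  have hfibre : ∀ η ∈ (Set.toFinite Y).toFinset,
      ((Finset.univ.erase 1).filter fun ψ : (P : Subgroup G) →* ℂˣ => ζ ψ = η).card = 3 := by
    intro η hη
    obtain ⟨ψ, hψ, rfl⟩ := hζs η ((Set.Finite.mem_toFinset _).1 hη)
    rw [← h.card_orb hψ]
    refine congrArg Finset.card (Finset.ext fun φ => ?_)
    rw [Finset.mem_filter, Finset.mem_erase]
    exact ⟨fun hφ => hζi ψ φ hψ hφ.1.1 hφ.2, fun hφ =>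
      ⟨⟨ne_one_of_mem_orb hψ hφ, Finset.mem_univ _⟩, hζo ψ φ hψ hφ⟩⟩
  have hcardE : (Finset.univ.erase (1 : (P : Subgroup G) →* ℂˣ)).card =
      Nat.card (P : Subgroup G) - 1 := by
    rw [Finset.card_erase_of_mem (Finset.mem_univ _), Finset.card_univ, ← Nat.card_eq_fintype_card,
      card_dual h.comm]
  have hq : Nat.card (P : Subgroup G) - 1 = r * 3 := by
    rw [← hcardE, Finset.card_eq_sum_card_fiberwise (f := ζ) (t := (Set.toFinite Y).toFinset)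
      (fun ψ hψ => (Set.Finite.mem_toFinset _).2 (hζY ψ (Finset.mem_erase.1 hψ).1)),
      Finset.sum_congr rfl hfibre, Finset.sum_const, smul_eq_mul,
      ← Nat.card_eq_card_finite_toFinset, hY]
  have hr2 : 2 ≤ r := by omega
  have hrZ : ((Nat.card (P : Subgroup G) - 1) / 3 : ℤ) = (r : ℤ) := by omega
  rw [Nat.cast_ofNat, hrZ] at hnorm
  have hX3 : A = 3 → Nat.card X = 3 ∧ ∀ χ ∈ X, a χ = 1 ∨ a χ = -1 := by
    intro hA3
    have hsq : ∀ χ ∈ (Set.toFinite X).toFinset, a χ ^ 2 = 1 := by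
      intro χ hχ
      have h1 : a χ ^ 2 ≤ A := by
        rw [hA']; exact Finset.single_le_sum (fun ψ _ => sq_nonneg (a ψ)) hχ
      have hb : -1 ≤ a χ ∧ a χ ≤ 1 := by constructor <;> nlinarith
      have := hone χ hχ
      obtain ⟨hb1, hb2⟩ := hb
      rcases (show a χ = -1 ∨ a χ = 0 ∨ a χ = 1 by omega) with e | e | e <;> rw [e] at this ⊢ <;>
        first | rfl | omega | norm_num | (norm_num at this)
    refine ⟨?_, fun χ hχ => sq_eq_one_iff.1 (hsq χ ((Set.Finite.mem_toFinset _).2 hχ))⟩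
    rw [hA', Finset.sum_congr rfl hsq, Finset.sum_const, nsmul_eq_mul, mul_one,
      ← Nat.card_eq_card_finite_toFinset] at hA3
    exact_mod_cast hA3
  rcases eq_or_ne d 0 with rfl | hd
  · obtain ⟨hc, hs⟩ := hX3 (by rcases hδ with rfl | rfl <;> linarith)
    refine ⟨X, Y, a, δ, ζ, hB, hdisj, hc, hY, htriv, hat, hδ, hs, fun χ hχ => (hval χ hχ).2, hζY,
      hζs, hζo, hζi, fun ψ hψ z y hz hy => ?_, hreg, fun η hη g hg => ?_⟩
    · rw [hζv ψ hψ z y hz hy, Int.cast_zero, zero_add]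
    · have := hlin η hη g hg
      simp only [Int.cast_zero, mul_zero, zero_sub] at this
      linear_combination this
  have hdd : d = δ ∧ (r : ℤ) - 1 + A = 4 := by
    have hd1 : 1 ≤ d ^ 2 := by
      have h1 := mul_self_pos.2 hd
      rw [sq]; omega
    have hA1 : 1 ≤ A := le_trans (by exact_mod_cast hXpos) hcardA
    have hr1 : (1 : ℤ) ≤ (r : ℤ) - 1 := by omega
    have h1 : d ^ 2 ≤ ((r : ℤ) - 1) * d ^ 2 := le_mul_of_one_le_left (sq_nonneg d) hr1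
    have h2 := sq_nonneg (d - δ)
    have hb : -1 ≤ d ∧ d ≤ 1 := by constructor <;> nlinarith
    obtain ⟨hb1, hb2⟩ := hb
    interval_cases d <;> rcases hδ with rfl | rfl <;>
      first | omega | (norm_num at hnorm ⊢; omega) | (norm_num at hnorm)
  obtain ⟨rfl, hsum⟩ := hdd
  have hr4 : r ≤ 4 := by
    have : (1 : ℤ) ≤ A := le_trans (by exact_mod_cast hXpos) hcardA
    omega
  have hr3 : r ≠ 3 := by
    intro h3
    obtain ⟨k, hk⟩ := IsPGroup.iff_card.1 P.2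
    have hqc : p ^ k = 10 := by rw [← hk]; omega
    have h2 : 2 = p := (Nat.prime_dvd_prime_iff_eq Nat.prime_two Fact.out).1
      (Nat.prime_two.dvd_of_dvd_pow (n := k) (by rw [hqc]; norm_num))
    have h5 : 5 = p := (Nat.prime_dvd_prime_iff_eq (by norm_num) Fact.out).1
      ((show Nat.Prime 5 by norm_num).dvd_of_dvd_pow (n := k) (by rw [hqc]; norm_num))
    omega
  have hr4' : r ≠ 4 := by
    intro h4
    have hA1 : A = 1 := by omega
    have hX1 : (Set.toFinite X).toFinset = {trivIrr G} := by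
      refine (Finset.eq_singleton_iff_unique_mem.2
        ⟨(Set.Finite.mem_toFinset _).2 htriv, fun χ hχ => ?_⟩)
      by_contra hne
      have h2 : a χ ^ 2 + a (trivIrr G) ^ 2 ≤ A := by
        rw [hA', ← Finset.sum_pair (f := fun ψ => a ψ ^ 2) hne]
        refine Finset.sum_le_sum_of_subset_of_nonneg ?_ fun ψ _ _ => sq_nonneg _
        intro ψ hψ
        rcases Finset.mem_insert.1 hψ with rfl | hψ'
        · exact hχ
        · rw [Finset.mem_singleton.1 hψ']; exact (Set.Finite.mem_toFinset _).2 htriv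
      have := hone χ hχ
      rw [hat] at h2
      omega
    obtain ⟨η, hη⟩ : Y.Nonempty := by
      haveI : Nontrivial (P : Subgroup G) := Finite.one_lt_card_iff_nontrivial.1 (by omega)
      obtain ⟨y, hy⟩ := exists_ne (1 : (P : Subgroup G))
      obtain ⟨ψ, hψ⟩ := exists_dual_ne_one h.comm hy
      exact ⟨_, hζY ψ fun e => hψ (by rw [e]; rfl)⟩
    have h1 := hlin η hη 1 (by rw [orderOf_one]; exact (Fact.out : p.Prime).not_dvd_one)
    rw [finsum_mem_eq_finite_toFinset_sum _ (Set.toFinite X), hX1, Finset.sum_singleton, hat,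
      h4, ← charDegree_cast, show ((trivIrr G : Cfsg.IrrCharacter G) : G → ℂ) 1 = 1 from rfl] at h1
    have h2 : ((4 * d - d) * (Cfsg.charDegree (η : G → ℂ) : ℤ) + 1 : ℤ) = 0 := by
      apply Int.cast_injective (α := ℂ)
      push_cast at h1 ⊢
      linear_combination h1
    rcases hδ with rfl | rfl <;> omega
  have hr' : r = 2 := by omega
  obtain ⟨hc, hs⟩ := hX3 (by omega)
  -- exchange the two exceptional characters
  have horb : ∀ ψ φ : (P : Subgroup G) →* ℂˣ, ψ ≠ 1 → φ ≠ 1 → φ ∉ orb ψ →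
      orb ψ ∪ orb φ = Finset.univ.erase 1 ∧ Disjoint (orb ψ) (orb φ) := by
    intro ψ φ hψ hφ hne
    have hdj : Disjoint (orb ψ) (orb φ) := Finset.disjoint_left.2 fun x hx hx' =>
      hne (((orb_eq hx).symm.trans (orb_eq hx')).symm ▸ mem_orb_self φ)
    refine ⟨Finset.eq_of_subset_of_card_le (fun x hx => Finset.mem_erase.2 ⟨?_, Finset.mem_univ _⟩)
      ?_, hdj⟩
    · rcases Finset.mem_union.1 hx with hx | hx
      · exact ne_one_of_mem_orb hψ hx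
      · exact ne_one_of_mem_orb hφ hx
    · rw [Finset.card_union_of_disjoint hdj, h.card_orb hψ, h.card_orb hφ, hcardE]
      omega
  obtain ⟨ψ₀, hψ₀, ψ₁, hψ₁, hne₀⟩ : ∃ ψ₀ : (P : Subgroup G) →* ℂˣ, ψ₀ ≠ 1 ∧
      ∃ ψ₁ : (P : Subgroup G) →* ℂˣ, ψ₁ ≠ 1 ∧ ψ₁ ∉ orb ψ₀ := by
    obtain ⟨ψ₀, hψ₀⟩ := Finset.card_pos.1
      (show 0 < (Finset.univ.erase (1 : (P : Subgroup G) →* ℂˣ)).card by omega)
    have hψ₀' := (Finset.mem_erase.1 hψ₀).1
    obtain ⟨ψ₁, hψ₁, hne⟩ := Finset.exists_mem_notMem_of_card_lt_card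
      (show (orb ψ₀).card < (Finset.univ.erase (1 : (P : Subgroup G) →* ℂˣ)).card by
        rw [h.card_orb hψ₀']; omega)
    exact ⟨ψ₀, hψ₀', ψ₁, (Finset.mem_erase.1 hψ₁).1, hne⟩
  have hcover : ∀ ψ : (P : Subgroup G) →* ℂˣ, ψ ≠ 1 → ψ ∈ orb ψ₀ ∨ ψ ∈ orb ψ₁ := fun ψ hψ =>
    Finset.mem_union.1 ((horb ψ₀ ψ₁ hψ₀ hψ₁ hne₀).1.symm ▸
      Finset.mem_erase.2 ⟨hψ, Finset.mem_univ _⟩)
  set τ : ((P : Subgroup G) →* ℂˣ) → ((P : Subgroup G) →* ℂˣ) :=
    fun ψ => if ψ ∈ orb ψ₀ then ψ₁ else ψ₀ with hτ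
  have hτne : ∀ ψ, τ ψ ≠ 1 := fun ψ => by simp only [hτ]; split_ifs <;> assumption
  have hτout : ∀ ψ, ψ ≠ 1 → τ ψ ∉ orb ψ := by
    intro ψ hψ
    simp only [hτ]
    split_ifs with hmem
    · rw [orb_eq hmem]; exact hne₀
    · have h1 := (hcover ψ hψ).resolve_left hmem
      rw [orb_eq h1]
      intro h0
      exact hne₀ (orb_eq h0 ▸ mem_orb_self ψ₁)
  refine ⟨X, Y, a, -d, fun ψ => ζ (τ ψ), hB, hdisj, hc, hY, htriv, hat, ?_, hs,
    fun χ hχ => (hval χ hχ).2, fun ψ _ => hζY _ (hτne ψ), ?_, ?_, ?_, ?_, hreg, ?_⟩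
  · rcases hδ with rfl | rfl <;> norm_num
  · intro η hη
    obtain ⟨φ, hφ, rfl⟩ := hζs η hη
    rcases hcover φ hφ with h0 | h1
    · refine ⟨ψ₁, hψ₁, ?_⟩
      simp only [hτ, if_neg hne₀]
      exact (hζo ψ₀ φ hψ₀ h0).symm
    · refine ⟨ψ₀, hψ₀, ?_⟩
      simp only [hτ, if_pos (mem_orb_self ψ₀)]
      exact (hζo ψ₁ φ hψ₁ h1).symm
  · intro ψ ψ' _ hmem
    have : ψ' ∈ orb ψ₀ ↔ ψ ∈ orb ψ₀ := by
      constructor <;> intro h'
      · rw [← orb_eq h', orb_eq hmem]; exact mem_orb_self ψ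
      · rw [← orb_eq h']; exact hmem
    simp only [hτ, this]
  · intro ψ ψ' hψ hψ' e
    have hmem := hζi _ _ (hτne ψ) (hτne ψ') e
    have hiff : ψ' ∈ orb ψ₀ ↔ ψ ∈ orb ψ₀ := by
      simp only [hτ] at hmem
      by_cases h' : ψ' ∈ orb ψ₀ <;> by_cases h'' : ψ ∈ orb ψ₀ <;>
        simp only [h', h'', if_true, if_false] at hmem ⊢
      · exact absurd hmem hne₀
      · exact absurd (orb_eq hmem ▸ mem_orb_self ψ₁) hne₀
    by_cases h'' : ψ ∈ orb ψ₀
    · rw [orb_eq h'']; exact hiff.2 h''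
    · rw [orb_eq ((hcover ψ hψ).resolve_left h'')]
      exact (hcover ψ' hψ').resolve_left (fun h' => h'' (hiff.1 h'))
  · intro ψ hψ z y hz hy
    obtain ⟨hun, hdj⟩ := horb ψ (τ ψ) hψ (hτne ψ) (hτout ψ hψ)
    have hs0 := sum_dual_apply h.comm y
    rw [if_neg (fun e : y = 1 => hy (by rw [e]; rfl)),
      ← Finset.add_sum_erase _ _ (Finset.mem_univ (1 : (P : Subgroup G) →* ℂˣ)),
      MonoidHom.one_apply, Units.val_one, ← hun, Finset.sum_union hdj] at hs0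
    rw [hζv _ (hτne ψ) z y hz hy, Int.cast_neg]
    linear_combination (d : ℂ) * hs0
  · intro η hη g hg
    have := hlin η hη g hg
    rw [hr', Nat.cast_ofNat] at this
    push_cast
    linear_combination this

end Cfsg.Agent.BlocksChars.FrobNormalizer
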