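import Mathlib
import Cfsg.Agent.BlocksChars.FrobNormalizer.Three
import Cfsg.Agent.BlocksChars.SectionOrth
import Cfsg.Agent.S4722
import Cfsg.Agent.S0944

/-!
# An involution outside every proper normal subgroup
-/

set_option linter.style.haveILetI false
set_option linter.unusedSectionVars false

namespace Cfsg.Agent.BlocksChars.FrobNormalizer

open Cfsg.Agent.Characters Cfsg.Agent.Blocks
open scoped ComplexConjugate

universe u

variable {G : Type u} [Group G] [Finite G] {p : ℕ} {M : Ideal Cfsg.AlgInt}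

open scoped Classical in
/-- A combination of all characters vanishing on regular elements keeps this property after
projection to a block. -/
theorem blockSum_eq_zero_regular (hM : Cfsg.IsPModular p M) [Fintype (Cfsg.IrrCharacter G)]
    {B : Set (Cfsg.IrrCharacter G)} (hB : Cfsg.IsPBlock M B) (c : Cfsg.IrrCharacter G → ℂ)
    (h : ∀ g : G, ¬ p ∣ orderOf g → ∑ χ : Cfsg.IrrCharacter G, c χ * (χ : G → ℂ) g = 0)
    {v : G} (hv : ¬ p ∣ orderOf v) :
    ∑ χ : Cfsg.IrrCharacter G, (if χ ∈ B then c χ * (χ : G → ℂ) v else 0) = 0 := by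
  classical
  haveI := Fintype.ofFinite G
  have hstep : ∑ g : G, (∑ χ : Cfsg.IrrCharacter G, c χ * (χ : G → ℂ) g) *
      (∑ ψ : Cfsg.IrrCharacter G,
        if ψ ∈ B then (ψ : G → ℂ) v * conj ((ψ : G → ℂ) g) else 0) = 0 := by
    refine Finset.sum_eq_zero fun g _ => ?_
    by_cases hg : p ∣ orderOf g
    · have h0 := sum_block_reg_sing hM (intEl_blockIdem hM hB) hv hg
      rw [finsum_mem_def, finsum_eq_sum_of_fintype] at h0
      simp only [Set.indicator_apply] at h0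
      rw [h0, mul_zero]
    · rw [h g hg, zero_mul]
  have hinner : ∀ χ ψ : Cfsg.IrrCharacter G,
      ∑ g : G, (χ : G → ℂ) g * conj ((ψ : G → ℂ) g) = if χ = ψ then (Nat.card G : ℂ) else 0 := by
    intro χ ψ
    have := classInner_irr χ ψ
    rw [classInner_def, inv_mul_eq_iff_eq_mul₀ natCard_ne_zero] at this
    rw [this]
    split <;> simp
  have hswap : ∑ g : G, (∑ χ : Cfsg.IrrCharacter G, c χ * (χ : G → ℂ) g) *
      (∑ ψ : Cfsg.IrrCharacter G,
        if ψ ∈ B then (ψ : G → ℂ) v * conj ((ψ : G → ℂ) g) else 0) =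
      (Nat.card G : ℂ) *
        ∑ ψ : Cfsg.IrrCharacter G, if ψ ∈ B then c ψ * (ψ : G → ℂ) v else 0 := by
    simp only [Finset.mul_sum, Finset.sum_mul]
    rw [Finset.sum_comm]
    refine Finset.sum_congr rfl fun ψ _ => ?_
    rw [Finset.sum_comm]
    by_cases hψ : ψ ∈ B
    · simp only [if_pos hψ]
      calc ∑ χ : Cfsg.IrrCharacter G, ∑ g : G,
            c χ * (χ : G → ℂ) g * ((ψ : G → ℂ) v * conj ((ψ : G → ℂ) g))
          = ∑ χ : Cfsg.IrrCharacter G, c χ * (ψ : G → ℂ) v *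
              ∑ g : G, (χ : G → ℂ) g * conj ((ψ : G → ℂ) g) :=
            Finset.sum_congr rfl fun χ _ => by
              rw [Finset.mul_sum]
              exact Finset.sum_congr rfl fun g _ => by ring
        _ = _ := by
            simp only [hinner, mul_ite, mul_zero]
            rw [Finset.sum_ite_eq', if_pos (Finset.mem_univ ψ)]
            ring
    · simp [if_neg hψ]
  rw [hswap] at hstep
  exact (mul_eq_zero.1 hstep).resolve_left natCard_ne_zero

/-- Two involutions with a product of odd order are conjugate. -/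
theorem isConj_of_odd_product {a b g : G} (hb : b * b = 1) (hab : g * b = a) (ha : a * a = 1)
    (hg : Odd (orderOf g)) : IsConj b a := by
  obtain ⟨k, hk⟩ := hg
  have hbg : b * g * b⁻¹ = g⁻¹ := by
    rw [inv_eq_of_mul_eq_one_right hb]
    refine eq_inv_of_mul_eq_one_right ?_
    rw [show g * (b * g * b) = g * b * (g * b) by simp only [mul_assoc], hab, ha]
  refine isConj_iff.2 ⟨g ^ (k + 1), ?_⟩
  have h1 : b * (g ^ (k + 1))⁻¹ * b⁻¹ = g ^ (k + 1) := by
    rw [← conj_inv, ← conj_pow, hbg, inv_pow, inv_inv]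
  calc g ^ (k + 1) * b * (g ^ (k + 1))⁻¹
      = g ^ (k + 1) * (b * (g ^ (k + 1))⁻¹ * b⁻¹) * b := by group
    _ = g ^ (k + 1) * g ^ (k + 1) * b := by rw [h1]
    _ = g ^ (2 * k + 1) * g * b := by rw [← pow_add, ← pow_succ]; congr 2; ring
    _ = a := by rw [← hk, pow_orderOf_eq_one, one_mul, hab]

/-- Class multiplication: involutions of different classes do not multiply to a regular element. -/
theorem sum_involution_pair_eq_zero [Fintype (Cfsg.IrrCharacter G)] {a b g : G} (ha : a * a = 1)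
    (hb : b * b = 1) (hab : ¬ IsConj a b) (hg : Odd (orderOf g)) :
    ∑ χ : Cfsg.IrrCharacter G,
      (χ : G → ℂ) a * (χ : G → ℂ) b / (χ : G → ℂ) 1 * (χ : G → ℂ) g = 0 := by
  classical
  haveI := Fintype.ofFinite G
  have hinv : a⁻¹ = a := inv_eq_of_mul_eq_one_right ha
  have h : (Nat.card G : ℂ) * ∑ χ : Cfsg.IrrCharacter G,
      (χ : G → ℂ) a * (χ : G → ℂ) b / (χ : G → ℂ) 1 * (χ : G → ℂ) g = 0 := by
    calc (Nat.card G : ℂ) * ∑ χ : Cfsg.IrrCharacter G,
          (χ : G → ℂ) a * (χ : G → ℂ) b / (χ : G → ℂ) 1 * (χ : G → ℂ) g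
        = ∑ χ : Cfsg.IrrCharacter G, ∑ w : G,
            (χ : G → ℂ) (g * (w * b * w⁻¹)) * conj ((χ : G → ℂ) a) := by
          rw [Finset.mul_sum]
          refine Finset.sum_congr rfl fun χ _ => ?_
          rw [← Finset.sum_mul, sum_char_mul_conj, ← char_inv (irr_isCharacter χ), hinv]
          ring
      _ = 0 := by
          rw [Finset.sum_comm]
          refine Finset.sum_eq_zero fun w _ => ?_
          rw [second_orthogonality, if_neg]
          intro hc
          have hcc := isConj_iff.1 hc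
          obtain ⟨c, hc'⟩ := hcc
          have hbw : w * b * w⁻¹ * (w * b * w⁻¹) = 1 := by
            rw [show w * b * w⁻¹ * (w * b * w⁻¹) = w * (b * b) * w⁻¹ by group, hb]; group
          have haw : g * (w * b * w⁻¹) * (g * (w * b * w⁻¹)) = 1 := by
            have e : g * (w * b * w⁻¹) = c⁻¹ * a * c := by rw [← hc']; group
            rw [e, show c⁻¹ * a * c * (c⁻¹ * a * c) = c⁻¹ * (a * a) * c by group, ha]; group
          exact hab (hc.symm.trans ((isConj_of_odd_product hbw rfl haw hg).symm.trans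
            (isConj_iff.2 ⟨w, rfl⟩).symm))
  exact (mul_eq_zero.1 h).resolve_left natCard_ne_zero

variable [Fact p.Prime] {P : Sylow p G}

theorem Setting.not_inverted (h : Setting P 3) {y : (P : Subgroup G)} (hy : y * y ≠ 1) (g : G) :
    g * (y : G) * g⁻¹ ≠ (y : G)⁻¹ := by
  intro hg
  have hy1 : y ≠ 1 := fun e => hy (by rw [e, one_mul])
  obtain ⟨γ, hγ, hγy⟩ := h.fusion (y := y) (z := y⁻¹) (isConj_iff.2 ⟨g, hg⟩)
  have h2 : γ * γ = 1 := h.eq_one_of_fixed ((autP P).mul_mem hγ hγ) hy1 (by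
    rw [MulAut.mul_apply, hγy, map_inv, hγy, inv_inv])
  have h3 : γ ^ 3 = 1 := by
    have h' : (⟨γ, hγ⟩ : autP P) ^ 3 = 1 := by rw [← h.card_autP]; exact pow_card_eq_one'
    exact congrArg Subtype.val h'
  have hγ1 : γ = 1 := by rwa [pow_succ, pow_two, h2, one_mul] at h3
  rw [hγ1, MulAut.one_apply] at hγy
  exact hy (mul_eq_one_iff_eq_inv.2 hγy)

variable {X Y : Set (Cfsg.IrrCharacter G)} {a : Cfsg.IrrCharacter G → ℤ} {δ : ℤ}
  {ζ : ((P : Subgroup G) →* ℂˣ) → Cfsg.IrrCharacter G}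

theorem ThreeData.exists_triple (D : ThreeData P M X Y a δ ζ) :
    ∃ χ₂ χ₃, χ₂ ≠ χ₃ ∧ χ₂ ≠ trivIrr G ∧ χ₃ ≠ trivIrr G ∧ X = {trivIrr G, χ₂, χ₃} := by
  classical
  have hc : ((Set.toFinite X).toFinset.erase (trivIrr G)).card = 2 := by
    rw [Finset.card_erase_of_mem ((Set.Finite.mem_toFinset _).2 D.triv_mem),
      ← Nat.card_eq_card_finite_toFinset, D.cardX]
  obtain ⟨χ₂, χ₃, hne, heq⟩ := Finset.card_eq_two.1 hc
  have hmem : ∀ χ, χ ∈ ({χ₂, χ₃} : Finset (Cfsg.IrrCharacter G)) ↔ χ ≠ trivIrr G ∧ χ ∈ X :=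
    fun χ => by rw [← heq, Finset.mem_erase, Set.Finite.mem_toFinset]
  refine ⟨χ₂, χ₃, hne, ((hmem χ₂).1 (by simp)).1, ((hmem χ₃).1 (by simp)).1, ?_⟩
  ext χ
  have := hmem χ
  simp only [Finset.mem_insert, Finset.mem_singleton] at this
  simp only [Set.mem_insert_iff, Set.mem_singleton_iff]
  constructor
  · intro hχ
    by_cases e : χ = trivIrr G
    · exact Or.inl e
    · exact Or.inr (this.2 ⟨e, hχ⟩)
  · rintro (rfl | hχ)
    · exact D.triv_mem
    · exact (this.1 hχ).2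

theorem finsum_triple {R : Type*} [AddCommMonoid R] {χ₁ χ₂ χ₃ : Cfsg.IrrCharacter G}
    (h12 : χ₁ ≠ χ₂) (h13 : χ₁ ≠ χ₃) (h23 : χ₂ ≠ χ₃) (F : Cfsg.IrrCharacter G → R) :
    ∑ᶠ χ ∈ ({χ₁, χ₂, χ₃} : Set (Cfsg.IrrCharacter G)), F χ = F χ₁ + F χ₂ + F χ₃ := by
  rw [finsum_mem_insert _ (by simp [h12, h13]) ((Set.finite_singleton _).insert _),
    finsum_mem_pair h23, add_assoc]

/-- A nontrivial member of the block cannot have `t` in its kernel. -/
theorem kernel_absurd {t : G} (ht : ∀ K : Subgroup G, K.Normal → t ∈ K → K = ⊤)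
    {χ : Cfsg.IrrCharacter G} (hχ : χ ≠ trivIrr G) (h : (χ : G → ℂ) t = (χ : G → ℂ) 1) : False := by
  haveI := Fintype.ofFinite G
  have htop := ht _ (charKernel_normal (irr_isCharacter χ)) (mem_charKernel.2 h)
  have hall : ∀ g : G, (χ : G → ℂ) g = (χ : G → ℂ) 1 := fun g =>
    mem_charKernel.1 (htop ▸ Subgroup.mem_top g : g ∈ charKernel (χ : G → ℂ) (irr_isCharacter χ))
  have hin := classInner_irr χ (trivIrr G)
  rw [if_neg hχ, classInner_def] at hin
  simp only [hall, show ((trivIrr G : Cfsg.IrrCharacter G) : G → ℂ) = fun _ => 1 from rfl, map_one,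
    mul_one, Finset.sum_const, Finset.card_univ, ← Nat.card_eq_fintype_card, nsmul_eq_mul] at hin
  rw [← mul_assoc, inv_mul_cancel₀ natCard_ne_zero, one_mul] at hin
  exact irr_one_ne_zero χ.2 hin

/-- Sums over the exceptional characters, orbit by orbit. -/
theorem ThreeData.sum_exceptional (h : Setting P 3) (D : ThreeData P M X Y a δ ζ)
    [Fintype ((P : Subgroup G) →* ℂˣ)] [DecidableEq ((P : Subgroup G) →* ℂˣ)]
    (F : Cfsg.IrrCharacter G → ℂ) {z : G} {y : (P : Subgroup G)}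
    (hz : Cfsg.IsPPart p z (y : G)) (hy : (y : G) ≠ 1) :
    ∑ᶠ η ∈ Y, F η * (η : G → ℂ) z =
      (δ : ℂ) * ∑ ψ ∈ Finset.univ.erase (1 : (P : Subgroup G) →* ℂˣ),
        F (ζ ψ) * ((ψ y : ℂˣ) : ℂ) := by
  classical
  rw [finsum_mem_eq_finite_toFinset_sum _ (Set.toFinite Y), Finset.mul_sum,
    ← Finset.sum_fiberwise_of_maps_to (g := ζ) (t := (Set.toFinite Y).toFinset)
      (s := Finset.univ.erase (1 : (P : Subgroup G) →* ℂˣ))
      fun ψ hψ => (Set.Finite.mem_toFinset _).2 (D.zeta_mem ψ (Finset.mem_erase.1 hψ).1)]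
  refine Finset.sum_congr rfl fun η hη => ?_
  obtain ⟨ψ, hψ, rfl⟩ := D.zeta_surj η ((Set.Finite.mem_toFinset _).1 hη)
  rw [D.valueY ψ hψ z y hz hy, Finset.mul_sum, Finset.mul_sum]
  refine Finset.sum_congr (Finset.ext fun φ => ?_) fun φ hφ => ?_
  · rw [Finset.mem_filter, Finset.mem_erase]
    exact ⟨fun hφ => ⟨⟨ne_one_of_mem_orb hψ hφ, Finset.mem_univ _⟩, D.zeta_orb ψ φ hψ hφ⟩,
      fun hφ => D.zeta_inj ψ φ hψ hφ.1.1 hφ.2⟩
  · rw [(Finset.mem_filter.1 hφ).2]; ring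

theorem sum_dual_erase (h : Setting P 3) [Fintype ((P : Subgroup G) →* ℂˣ)]
    [DecidableEq ((P : Subgroup G) →* ℂˣ)] {y : (P : Subgroup G)} (hy : y ≠ 1) :
    ∑ ψ ∈ Finset.univ.erase (1 : (P : Subgroup G) →* ℂˣ), ((ψ y : ℂˣ) : ℂ) = -1 := by
  classical
  have hs := sum_dual_apply h.comm y
  rw [if_neg hy, ← Finset.add_sum_erase _ _ (Finset.mem_univ (1 : (P : Subgroup G) →* ℂˣ)),
    MonoidHom.one_apply, Units.val_one] at hs
  linear_combination hs

/-- The column of the block at an element of `P` against the squares at an involution. -/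
theorem ThreeData.square_relation (h : Setting P 3) (hM : Cfsg.IsPModular p M)
    (D : ThreeData P M X Y a δ ζ) [Fintype ((P : Subgroup G) →* ℂˣ)]
    [DecidableEq ((P : Subgroup G) →* ℂˣ)] {t : G} (ht : t * t = 1) {y : (P : Subgroup G)}
    (hy : y * y ≠ 1) :
    ∑ᶠ χ ∈ X, (χ : G → ℂ) t ^ 2 / (χ : G → ℂ) 1 * (a χ : ℂ) +
      (δ : ℂ) * ∑ ψ ∈ Finset.univ.erase (1 : (P : Subgroup G) →* ℂˣ),
        (ζ ψ : G → ℂ) t ^ 2 / (ζ ψ : G → ℂ) 1 * ((ψ y : ℂˣ) : ℂ) = 0 := by
  classical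
  haveI := Fintype.ofFinite (Cfsg.IrrCharacter G)
  have hy1 : (y : G) ≠ 1 := fun e => hy (Subtype.ext (by simp [e]))
  have hord := SectionOrth.exists_orderOf_eq P.2 y
  have h0 := SectionOrth.blockSum_eq_zero_of_section hM (isPBlock_principal M G) hord
    (fun χ => (χ : G → ℂ) t ^ 2 / (χ : G → ℂ) 1) (fun g x hx hc =>
      Cfsg.Agent.S4722.involution_section_eq_zero hM.1 ht (fun g => h.not_inverted hy _) hx hc)
  rw [← D.sum_exceptional h (fun χ => (χ : G → ℂ) t ^ 2 / (χ : G → ℂ) 1)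
    (SectionOrth.isPPart_self hM.1 hord) hy1]
  have e : ∑ᶠ χ ∈ X, (χ : G → ℂ) t ^ 2 / (χ : G → ℂ) 1 * (a χ : ℂ) =
      ∑ᶠ χ ∈ X, (χ : G → ℂ) t ^ 2 / (χ : G → ℂ) 1 * (χ : G → ℂ) (y : G) :=
    finsum_mem_congr rfl fun χ hχ => by
      rw [D.valueX χ hχ (y : G) (y : G) (SectionOrth.isPPart_self hM.1 hord) y.2 hy1]
  rw [e]
  rw [← finsum_mem_union D.disj (Set.toFinite _) (Set.toFinite _), ← D.block, finsum_mem_def,
    finsum_eq_sum_of_fintype]
  simp only [Set.indicator_apply]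
  exact h0

end Cfsg.Agent.BlocksChars.FrobNormalizer
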