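import Mathlib
import Cfsg.Agent.BlocksChars.FrobNormalizer.Involution

/-!
# The signs and the square product of degrees
-/

set_option linter.style.haveILetI false
set_option linter.unusedSectionVars false

namespace Cfsg.Agent.BlocksChars.FrobNormalizer

open Cfsg.Agent.Characters Cfsg.Agent.Blocks
open scoped ComplexConjugate

universe u

/-- Exactly two of the three signed degrees are negative. -/
theorem signs_of_moments (x₂ x₃ z r₂ r₃ w : ℝ) (h₂ : x₂ ≠ 0) (h₃ : x₃ ≠ 0) (hz : z ≠ 0)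
    (m0 : 1 + x₂ + x₃ + z = 0) (m1 : 1 + x₂ * r₂ + x₃ * r₃ + z * w = 0)
    (m2 : 1 + x₂ * r₂ ^ 2 + x₃ * r₃ ^ 2 + z * w ^ 2 = 0) (hne : r₂ ≠ 1) :
    (0 < x₂ ∧ x₃ < 0 ∧ z < 0) ∨ (x₂ < 0 ∧ 0 < x₃ ∧ z < 0) ∨ (x₂ < 0 ∧ x₃ < 0 ∧ 0 < z) := by
  by_contra hcon
  push Not at hcon
  obtain ⟨c1, c2, c3⟩ := hcon
  set b : Fin 4 → ℝ := ![1, x₂, x₃, z] with hb
  set r : Fin 4 → ℝ := ![1, r₂, r₃, w] with hr
  have h0 : ∑ i, b i = 0 := by
    simp [hb, Fin.sum_univ_four]; linarith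
  have h1 : ∑ i, b i * r i = 0 := by
    simp [hb, hr, Fin.sum_univ_four]; linarith
  have h2 : ∑ i, b i * r i ^ 2 = 0 := by
    simp [hb, hr, Fin.sum_univ_four]; linarith
  have hb0 : b 0 ≠ 0 := by simp [hb]
  have hb1 : b 1 ≠ 0 := by simpa [hb] using h₂
  rcases lt_or_gt_of_ne h₂ with s₂ | s₂ <;> rcases lt_or_gt_of_ne h₃ with s₃ | s₃ <;>
    rcases lt_or_gt_of_ne hz with s₄ | s₄
  · -- only the first weight is positive
    refine hne ?_
    have := Cfsg.Agent.S4722.eq_of_moments b r h0 h1 h2 (fun i j hi hj => by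
      fin_cases i <;> fin_cases j <;> simp_all <;> linarith) hb1 hb0
    simpa [hr] using this
  all_goals first
    | (exfalso; linarith [c1 ‹_› ‹_›])
    | (exfalso; linarith [c2 ‹_› ‹_›])
    | (exfalso; linarith [c3 ‹_› ‹_›])
    | (refine hne ?_
       have := Cfsg.Agent.S4722.eq_of_moments (fun i => -b i) r (by simp [h0]) (by simp [h1])
         (by simp [h2]) (fun i j hi hj => by
           fin_cases i <;> fin_cases j <;> simp_all <;> linarith)
         (i := 1) (j := 0) (neg_ne_zero.2 hb1) (neg_ne_zero.2 hb0)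
       simpa [hr] using this)
    | (exfalso; linarith)

/-- The discriminant of the quadratic relation. -/
theorem isSquare_of_relation (x₂ x₃ z s₂ s₃ w : ℤ) (h₂ : x₂ ≠ 0) (h₃ : x₃ ≠ 0)
    (m0 : 1 + x₂ + x₃ + z = 0) (m1 : 1 + s₂ + s₃ + w = 0)
    (m2 : x₂ * x₃ * z + s₂ ^ 2 * x₃ * z + s₃ ^ 2 * x₂ * z + w ^ 2 * x₂ * x₃ = 0)
    (hne : s₂ ≠ x₂) : IsSquare (x₂ * x₃ * z) := by
  have hz : z = -(1 + x₂ + x₃) := by linarith
  have hw : w = -(1 + s₂ + s₃) := by linarith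
  set S₂ := s₂ - x₂ with hS₂
  set S₃ := s₃ - x₃ with hS₃
  have hq : S₂ ^ 2 * x₃ * z + S₃ ^ 2 * x₂ * z + (S₂ + S₃) ^ 2 * (x₂ * x₃) = 0 := by
    rw [hS₂, hS₃]
    subst hz hw
    linear_combination m2
  have hS₂0 : S₂ ≠ 0 := sub_ne_zero.2 hne
  have hdisc : ((x₃ * z + x₂ * x₃) * S₂ + x₂ * x₃ * S₃) ^ 2 = S₃ ^ 2 * (x₂ * x₃ * z) := by
    subst hz
    linear_combination (x₃ * -(1 + x₂ + x₃) + x₂ * x₃) * hq
  rcases eq_or_ne S₃ 0 with h0 | h0
  · have h1 : x₃ * (z + x₂) = 0 := by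
      have : S₂ ^ 2 * (x₃ * (z + x₂)) = 0 := by rw [h0] at hq; linear_combination hq
      exact (mul_eq_zero.1 this).resolve_left (pow_ne_zero _ hS₂0)
    have h4 : z = -x₂ := by
      have := (mul_eq_zero.1 h1).resolve_left h₃
      linarith
    have h5 : x₃ = -1 := by linarith
    exact ⟨x₂, by rw [h5, h4]; ring⟩
  · obtain ⟨c, hc⟩ : S₃ ∣ (x₃ * z + x₂ * x₃) * S₂ + x₂ * x₃ * S₃ :=
      (Int.pow_dvd_pow_iff (two_ne_zero)).1 ⟨_, hdisc⟩
    refine ⟨c, mul_left_cancel₀ (pow_ne_zero 2 h0) ?_⟩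
    rw [← hdisc, hc]; ring

/-- The arithmetic that rules out the prime two. -/
theorem two_absurd (x₂ x₃ z : ℤ) (d₂ : (16 : ℤ) ∣ x₂ - 1) (d₃ : (16 : ℤ) ∣ x₃ - 1)
    (dz : (16 : ℤ) ∣ z + 3) (h₂ : x₂ ≠ 1) (h₃ : x₃ ≠ 1) (m0 : 1 + x₂ + x₃ + z = 0)
    (m2 : x₂ * x₃ * z + x₃ * z + x₂ * z + 9 * (x₂ * x₃) = 0) : False := by
  obtain ⟨k₂, hk₂⟩ := d₂
  obtain ⟨k₃, hk₃⟩ := d₃
  obtain ⟨kz, hkz⟩ := dz
  have a₂ : 15 ≤ |x₂| := by rcases abs_cases x₂ with ⟨h, h'⟩ | ⟨h, h'⟩ <;> omega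
  have a₃ : 15 ≤ |x₃| := by rcases abs_cases x₃ with ⟨h, h'⟩ | ⟨h, h'⟩ <;> omega
  have he : |z| * |x₂ * x₃ + x₃ + x₂| = 9 * (|x₂| * |x₃|) := by
    rw [← abs_mul, ← abs_mul, show z * (x₂ * x₃ + x₃ + x₂) = -(9 * (x₂ * x₃)) by linarith, abs_neg,
      abs_mul]
    norm_num
  have hlow : |x₂| * |x₃| - |x₃| - |x₂| ≤ |x₂ * x₃ + x₃ + x₂| := by
    have h1 := abs_add_le (x₂ * x₃ + x₃ + x₂) (-x₃ + -x₂)
    have h2 := abs_add_le (-x₃) (-x₂)
    rw [show x₂ * x₃ + x₃ + x₂ + (-x₃ + -x₂) = x₂ * x₃ by ring, abs_mul] at h1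
    rw [abs_neg, abs_neg] at h2
    linarith
  have hzb : |z| ≤ 11 := by
    by_contra hgt
    have h1 : 12 * (|x₂| * |x₃| - |x₃| - |x₂|) ≤ |z| * |x₂ * x₃ + x₃ + x₂| := by
      refine le_trans (mul_le_mul_of_nonneg_left hlow (by norm_num)) ?_
      exact mul_le_mul_of_nonneg_right (by omega) (abs_nonneg _)
    nlinarith
  have hz3 : z = -3 := by
    rcases abs_cases z with ⟨h, h'⟩ | ⟨h, h'⟩ <;> omega
  subst hz3
  have hs : x₂ + x₃ = 2 := by linarith
  have hp : x₂ * x₃ = 1 := by linarith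
  rcases Int.eq_one_or_neg_one_of_mul_eq_one hp with rfl | rfl <;> norm_num at a₂

variable {G : Type u} [Group G] [Finite G] {p : ℕ} {M : Ideal Cfsg.AlgInt}
variable [Fact p.Prime] {P : Sylow p G}
variable {X Y : Set (Cfsg.IrrCharacter G)} {a : Cfsg.IrrCharacter G → ℤ} {δ : ℤ}
  {ζ : ((P : Subgroup G) →* ℂˣ) → Cfsg.IrrCharacter G}

theorem exists_conj_mem {t : G} (ht : ∃ k : ℕ, orderOf t = p ^ k) :
    ∃ g : G, g * t * g⁻¹ ∈ (P : Subgroup G) := by
  have hpg : IsPGroup p (Subgroup.zpowers t) := by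
    obtain ⟨k, hk⟩ := ht
    exact IsPGroup.of_card (n := k) ((Nat.card_zpowers t).trans hk)
  obtain ⟨Q, hQ⟩ := hpg.exists_le_sylow
  obtain ⟨g, hg⟩ := MulAction.exists_smul_eq G Q P
  refine ⟨g, ?_⟩
  rw [← hg]
  exact ⟨t, hQ (Subgroup.mem_zpowers t), rfl⟩

/-- The prime two does not occur. -/
theorem ThreeData.ne_two (h : Setting P 3) (hM : Cfsg.IsPModular p M)
    (D : ThreeData P M X Y a δ ζ) (hm2 : 3 + 1 < Nat.card (P : Subgroup G)) {t : G}
    (ht : orderOf t = 2) (htK : ∀ K : Subgroup G, K.Normal → t ∈ K → K = ⊤) : p ≠ 2 := by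
  classical
  intro hp2
  subst hp2
  haveI := finite_dual h.comm
  haveI := Fintype.ofFinite ((P : Subgroup G) →* ℂˣ)
  haveI := Fintype.ofFinite (Cfsg.IrrCharacter G)
  haveI := Fintype.ofFinite G
  haveI := Fintype.ofFinite (P : Subgroup G)
  haveI := Fintype.ofFinite (autP P)
  obtain ⟨χ₂, χ₃, hne, h21, h31, rfl⟩ := D.exists_triple
  have ha₁ := D.a_triv
  have hd : ∀ χ : Cfsg.IrrCharacter G, (χ : G → ℂ) 1 = (Cfsg.charDegree (χ : G → ℂ) : ℂ) :=
    fun χ => (charDegree_cast χ).symm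
  obtain ⟨c, hc⟩ := exists_conj_mem (P := P) (t := t) ⟨1, by rw [ht]; norm_num⟩
  set t₀ : (P : Subgroup G) := ⟨c * t * c⁻¹, hc⟩ with ht₀
  have ht₀t : ∀ χ : Cfsg.IrrCharacter G, (χ : G → ℂ) t = (χ : G → ℂ) (t₀ : G) := fun χ =>
    (irr_isClassFunction χ t c).symm
  have ht₀1 : (t₀ : G) ≠ 1 := by
    intro e
    have : t = 1 := by
      have e' : c * t * c⁻¹ = 1 := e
      calc t = c⁻¹ * (c * t * c⁻¹) * c := by group
        _ = 1 := by rw [e']; group
    rw [this, orderOf_one] at ht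
    norm_num at ht
  have hvX : ∀ χ ∈ ({trivIrr G, χ₂, χ₃} : Set (Cfsg.IrrCharacter G)), ∀ y : (P : Subgroup G),
      (y : G) ≠ 1 → (χ : G → ℂ) y = (a χ : ℂ) := fun χ hχ y hy =>
    D.valueX χ hχ _ _ (SectionOrth.isPPart_self hM.1 (SectionOrth.exists_orderOf_eq P.2 y)) y.2 hy
  have hno : ∀ χ ∈ ({trivIrr G, χ₂, χ₃} : Set (Cfsg.IrrCharacter G)), χ ≠ trivIrr G →
      Cfsg.charDegree (χ : G → ℂ) = 1 → a χ = 1 → False := fun χ hχ hne' hd1 ha => by
    refine kernel_absurd htK hne' ?_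
    rw [ht₀t, hvX χ hχ t₀ ht₀1, ha, hd, hd1]; norm_num
  have hone : ¬ (2 : ℕ) ∣ orderOf (1 : G) := by rw [orderOf_one]; norm_num
  obtain ⟨η₀, hη₀⟩ : Y.Nonempty := by
    obtain ⟨ψ, hψ⟩ := exists_dual_ne_one h.comm (a := t₀) (fun e => ht₀1 (by rw [e]; rfl))
    exact ⟨_, D.zeta_mem ψ fun e => hψ (by rw [e]; rfl)⟩
  have hlin1 := D.linear η₀ hη₀ 1 hone
  rw [finsum_triple (Ne.symm h21) (Ne.symm h31) hne, ha₁, hd, hd, hd, hd,
    show Cfsg.charDegree ((trivIrr G : Cfsg.IrrCharacter G) : G → ℂ) = 1 by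
      simp [Cfsg.charDegree, show ((trivIrr G : Cfsg.IrrCharacter G) : G → ℂ) = fun _ => 1 from rfl]]
    at hlin1
  push_cast at hlin1
  have hζ1 : ∀ ψ : (P : Subgroup G) →* ℂˣ, ψ ≠ 1 → (ζ ψ : G → ℂ) 1 = (η₀ : G → ℂ) 1 := fun ψ hψ =>
    D.regular_eq _ (D.zeta_mem ψ hψ) _ hη₀ 1 hone
  by_cases hcase : ∃ u v : (P : Subgroup G), u ≠ 1 ∧ v ≠ 1 ∧ u * u = 1 ∧ v * v = 1 ∧
      ¬ IsConj (u : G) (v : G)
  · obtain ⟨u, v, hu, hv, hu2, hv2, huv⟩ := hcase
    have hu1 : (u : G) ≠ 1 := fun e => hu (Subtype.ext e)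
    have hv1 : (v : G) ≠ 1 := fun e => hv (Subtype.ext e)
    set B := Cfsg.principalBlock M G with hB
    set cf : Cfsg.IrrCharacter G → ℂ := fun χ =>
      if χ ∈ B then (χ : G → ℂ) u * (χ : G → ℂ) v / (χ : G → ℂ) 1 else 0 with hcf
    set φ : G → ℂ := fun g => ∑ χ : Cfsg.IrrCharacter G, cf χ * (χ : G → ℂ) g with hφ
    have hreg : ∀ g : G, ¬ 2 ∣ orderOf g → φ g = 0 := by
      intro g hg
      have h0 := blockSum_eq_zero_regular hM (isPBlock_principal M G)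
        (fun χ => (χ : G → ℂ) u * (χ : G → ℂ) v / (χ : G → ℂ) 1) (fun g' hg' =>
          sum_involution_pair_eq_zero (congrArg Subtype.val hu2) (congrArg Subtype.val hv2) huv
            (Nat.odd_iff.2 (by omega))) hg
      rw [hφ]
      refine Eq.trans (Finset.sum_congr rfl fun χ _ => ?_) h0
      simp only [hcf]
      split_ifs <;> simp
    have hsing : ∀ χ ∈ ({trivIrr G, χ₂, χ₃} : Set (Cfsg.IrrCharacter G)), ∀ g : G,
        2 ∣ orderOf g → (χ : G → ℂ) g = (a χ : ℂ) := by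
      intro χ hχ g hg
      obtain ⟨x, hx⟩ := exists_ppart hM.1 g
      have hx1 : x ≠ 1 := fun e => not_isConj_one_of_singular hg hx (by rw [e])
      obtain ⟨e, he⟩ := exists_conj_mem (P := P) (t := x) (by
        obtain ⟨w, -, -, hord, -⟩ := hx; exact hord)
      have hx' : Cfsg.IsPPart 2 (e * g * e⁻¹) (e * x * e⁻¹) := by
        obtain ⟨w, rfl, hcm, ⟨k, hk⟩, hw⟩ := hx
        exact ⟨e * w * e⁻¹, by group, hcm.map (MulAut.conj e).toMonoidHom,
          ⟨k, by rw [← hk]; exact MulEquiv.orderOf_eq (MulAut.conj e) x⟩,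
          by rwa [show orderOf (e * w * e⁻¹) = orderOf w from
            MulEquiv.orderOf_eq (MulAut.conj e) w]⟩
      rw [← irr_isClassFunction χ g e]
      exact D.valueX χ hχ _ _ hx' he (fun e' => hx1 (by
        calc x = e⁻¹ * (e * x * e⁻¹) * e := by group
          _ = 1 := by rw [e']; group))
    have hcoef : ∀ χ ∈ ({trivIrr G, χ₂, χ₃} : Set (Cfsg.IrrCharacter G)),
        cf χ = (a χ : ℂ) * ((Nat.card G : ℂ)⁻¹ *
          ∑ g : G, if 2 ∣ orderOf g then φ g else 0) := by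
      intro χ hχ
      have h1 : Cfsg.classInner φ (χ : G → ℂ) = cf χ := by
        rw [show φ = ∑ ψ : Cfsg.IrrCharacter G, cf ψ • (ψ : G → ℂ) by
          funext g; simp [hφ, Finset.sum_apply], classInner_sum_left,
          Finset.sum_eq_single χ (fun ψ _ hne' => by
            rw [classInner_smul_left, classInner_irr, if_neg hne', mul_zero]) (by simp),
          classInner_smul_left, classInner_irr, if_pos rfl, mul_one]
      rw [← h1, classInner_def, mul_left_comm]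
      congr 1
      rw [Finset.mul_sum]
      refine Finset.sum_congr rfl fun g _ => ?_
      split_ifs with hg
      · rw [hsing χ hχ g hg, map_intCast, mul_comm]
      · rw [hreg g hg, zero_mul, mul_zero]
    have hmemB : ∀ χ ∈ ({trivIrr G, χ₂, χ₃} : Set (Cfsg.IrrCharacter G)), χ ∈ B := fun χ hχ => by
      rw [hB, D.block]; exact Or.inl hχ
    have hval : ∀ χ ∈ ({trivIrr G, χ₂, χ₃} : Set (Cfsg.IrrCharacter G)),
        cf χ = ((Cfsg.charDegree (χ : G → ℂ) : ℂ))⁻¹ := by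
      intro χ hχ
      simp only [hcf]
      rw [if_pos (hmemB χ hχ), hvX χ hχ u hu1, hvX χ hχ v hv1, hd]
      rcases D.a_sign χ hχ with e | e <;> rw [e] <;> push_cast <;> ring
    have e1 := hval _ D.triv_mem
    rw [hcoef _ D.triv_mem, ha₁, Int.cast_one, one_mul,
      show Cfsg.charDegree ((trivIrr G : Cfsg.IrrCharacter G) : G → ℂ) = 1 by
        simp [Cfsg.charDegree, show ((trivIrr G : Cfsg.IrrCharacter G) : G → ℂ) = fun _ => 1 from rfl],
      Nat.cast_one, inv_one] at e1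
    have e2 := hval χ₂ (by simp)
    rw [hcoef χ₂ (by simp), e1, mul_one] at e2
    have hpos : 0 < Cfsg.charDegree (χ₂ : G → ℂ) := charDegree_pos χ₂
    have hprod : ((a χ₂ * Cfsg.charDegree (χ₂ : G → ℂ) : ℤ) : ℂ) = 1 := by
      push_cast
      rw [e2, inv_mul_cancel₀ (Nat.cast_ne_zero.2 hpos.ne')]
    have hprod' : a χ₂ * (Cfsg.charDegree (χ₂ : G → ℂ) : ℤ) = 1 := by exact_mod_cast hprod
    rcases D.a_sign χ₂ (by simp) with e | e
    · rw [e, one_mul] at hprod'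
      exact hno χ₂ (by simp) h21 (by exact_mod_cast hprod') e
    · rw [e] at hprod'; omega
  · push Not at hcase
    -- some element of `P` has order at least four
    obtain ⟨y, hy⟩ : ∃ y : (P : Subgroup G), y * y ≠ 1 := by
      by_contra hall
      push Not at hall
      have ht₀' : t₀ ≠ 1 := fun e => ht₀1 (by rw [e]; rfl)
      have hle : (Finset.univ.erase (1 : (P : Subgroup G))) ⊆
          Finset.univ.image fun γ : autP P => (γ : MulAut (P : Subgroup G)) t₀ := by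
        intro w hw
        obtain ⟨γ, hγ, e⟩ := h.fusion (hcase t₀ w ht₀' (Finset.mem_erase.1 hw).1 (hall t₀) (hall w))
        exact Finset.mem_image.2 ⟨⟨γ, hγ⟩, Finset.mem_univ _, e⟩
      have := (Finset.card_le_card hle).trans Finset.card_image_le
      rw [Finset.card_erase_of_mem (Finset.mem_univ _), Finset.card_univ, Finset.card_univ,
        ← Nat.card_eq_fintype_card, ← Nat.card_eq_fintype_card, h.card_autP] at this
      omega
    have ht2 : t * t = 1 := by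
      have := pow_orderOf_eq_one t; rwa [ht, pow_two] at this
    have hrel := D.square_relation h hM ht2 hy
    rw [finsum_triple (Ne.symm h21) (Ne.symm h31) hne, ha₁] at hrel
    simp only [ht₀t, hvX _ (show trivIrr G ∈ _ from D.triv_mem) t₀ ht₀1,
      hvX χ₂ (by simp) t₀ ht₀1, hvX χ₃ (by simp) t₀ ht₀1, ha₁] at hrel
    have htt : t₀ * t₀ = 1 := by
      refine Subtype.ext ?_
      show c * t * c⁻¹ * (c * t * c⁻¹) = 1
      rw [show c * t * c⁻¹ * (c * t * c⁻¹) = c * (t * t) * c⁻¹ by group, ht2]; group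
    have hsumE : ∑ ψ ∈ Finset.univ.erase (1 : (P : Subgroup G) →* ℂˣ),
        (∑ φ ∈ orb ψ, ((φ t₀ : ℂˣ) : ℂ)) ^ 2 * ((ψ y : ℂˣ) : ℂ) = -9 := by
      have horb : ∀ ψ ∈ Finset.univ.erase (1 : (P : Subgroup G) →* ℂˣ),
          ∑ φ ∈ orb ψ, ((φ t₀ : ℂˣ) : ℂ) =
            ∑ γ : autP P, ((ψ ((γ : MulAut (P : Subgroup G)) t₀) : ℂˣ) : ℂ) := by
        intro ψ hψ
        have hψ1 := (Finset.mem_erase.1 hψ).1
        symm
        refine Finset.sum_bij (fun γ _ => ψ.comp (γ : MulAut (P : Subgroup G)).toMonoidHom)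
          (fun γ _ => mem_orb.2 ⟨γ, γ.2, fun _ => rfl⟩) (fun γ _ γ' _ e => h.dual_injective hψ1 e)
          (fun φ hφ => ?_) fun γ _ => rfl
        obtain ⟨γ, hγ, e⟩ := mem_orb.1 hφ
        exact ⟨⟨γ, hγ⟩, Finset.mem_univ _, MonoidHom.ext fun w => (e w).symm⟩
      have hterm : ∀ γ γ' : autP P, ∑ ψ ∈ Finset.univ.erase (1 : (P : Subgroup G) →* ℂˣ),
          ((ψ ((γ : MulAut (P : Subgroup G)) t₀ * (γ' : MulAut (P : Subgroup G)) t₀ * y) : ℂˣ) : ℂ)
            = -1 := by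
        intro γ γ'
        refine sum_dual_erase h fun e => hy ?_
        have hcm := h.comm.is_comm.comm
        set A := (γ : MulAut (P : Subgroup G)) t₀ with hA
        set B := (γ' : MulAut (P : Subgroup G)) t₀ with hB
        have hA2 : A * A = 1 := by rw [hA, ← map_mul, htt, map_one]
        have hB2 : B * B = 1 := by rw [hB, ← map_mul, htt, map_one]
        have hAB : (A * B) * (A * B) = 1 := by
          calc A * B * (A * B) = A * (B * A) * B := by group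
            _ = A * (A * B) * B := by rw [hcm B A]
            _ = (A * A) * (B * B) := by group
            _ = 1 := by rw [hA2, hB2, one_mul]
        rw [eq_inv_of_mul_eq_one_right e, ← mul_inv_rev, hAB, inv_one]
      calc ∑ ψ ∈ Finset.univ.erase (1 : (P : Subgroup G) →* ℂˣ),
            (∑ φ ∈ orb ψ, ((φ t₀ : ℂˣ) : ℂ)) ^ 2 * ((ψ y : ℂˣ) : ℂ)
          = ∑ ψ ∈ Finset.univ.erase (1 : (P : Subgroup G) →* ℂˣ), ∑ γ : autP P, ∑ γ' : autP P,
              ((ψ ((γ : MulAut (P : Subgroup G)) t₀ * (γ' : MulAut (P : Subgroup G)) t₀ * y) : ℂˣ)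
                : ℂ) := Finset.sum_congr rfl fun ψ hψ => by
            rw [horb ψ hψ, sq, Finset.sum_mul_sum, Finset.sum_mul]
            refine Finset.sum_congr rfl fun γ _ => ?_
            rw [Finset.sum_mul]
            exact Finset.sum_congr rfl fun γ' _ => by simp only [map_mul, Units.val_mul]
        _ = ∑ γ : autP P, ∑ γ' : autP P, (-1 : ℂ) := by
            rw [Finset.sum_comm]
            refine Finset.sum_congr rfl fun γ _ => ?_
            rw [Finset.sum_comm]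
            exact Finset.sum_congr rfl fun γ' _ => hterm γ γ'
        _ = -9 := by
            simp only [Finset.sum_const, Finset.card_univ, ← Nat.card_eq_fintype_card, h.card_autP]
            norm_num
    set h₀ := Cfsg.charDegree (η₀ : G → ℂ) with hh₀
    have hsumY : ∑ ψ ∈ Finset.univ.erase (1 : (P : Subgroup G) →* ℂˣ),
        (ζ ψ : G → ℂ) t ^ 2 / (ζ ψ : G → ℂ) 1 * ((ψ y : ℂˣ) : ℂ) = -9 / (h₀ : ℂ) := by
      rw [← hsumE, Finset.sum_div]
      refine Finset.sum_congr rfl fun ψ hψ => ?_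
      have hψ1 := (Finset.mem_erase.1 hψ).1
      rw [hζ1 ψ hψ1, hd, ht₀t, D.valueY ψ hψ1 (t₀ : G) t₀
        (SectionOrth.isPPart_self hM.1 (SectionOrth.exists_orderOf_eq P.2 t₀)) ht₀1, ← hh₀]
      rcases D.sign with e | e <;> rw [e] <;> push_cast <;> ring
    simp only [← ht₀t] at hrel
    rw [hsumY, hd, hd, hd,
      show Cfsg.charDegree ((trivIrr G : Cfsg.IrrCharacter G) : G → ℂ) = 1 by
        simp [Cfsg.charDegree, show ((trivIrr G : Cfsg.IrrCharacter G) : G → ℂ) = fun _ => 1 from rfl]]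
      at hrel
    set x₂ : ℤ := a χ₂ * Cfsg.charDegree (χ₂ : G → ℂ) with hx₂
    set x₃ : ℤ := a χ₃ * Cfsg.charDegree (χ₃ : G → ℂ) with hx₃
    set z : ℤ := -δ * h₀ with hz
    have hd₂ : (Cfsg.charDegree (χ₂ : G → ℂ) : ℂ) ≠ 0 := Nat.cast_ne_zero.2 (charDegree_pos χ₂).ne'
    have hd₃ : (Cfsg.charDegree (χ₃ : G → ℂ) : ℂ) ≠ 0 := Nat.cast_ne_zero.2 (charDegree_pos χ₃).ne'
    have hh : (h₀ : ℂ) ≠ 0 := Nat.cast_ne_zero.2 (charDegree_pos η₀).ne'
    have m0 : 1 + x₂ + x₃ + z = 0 := by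
      apply Int.cast_injective (α := ℂ)
      rw [hx₂, hx₃, hz]
      push_cast
      linear_combination hlin1
    have m2 : x₂ * x₃ * z + x₃ * z + x₂ * z + 9 * (x₂ * x₃) = 0 := by
      apply Int.cast_injective (α := ℂ)
      rw [hx₂, hx₃, hz]
      push_cast at hrel ⊢
      field_simp at hrel
      rcases D.sign with e | e <;> rcases D.a_sign χ₂ (by simp) with e₂ | e₂ <;>
        rcases D.a_sign χ₃ (by simp) with e₃ | e₃ <;> simp only [e, e₂, e₃] at hrel ⊢ <;>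
        push_cast at hrel ⊢ <;> first
          | linear_combination hrel
          | linear_combination -hrel
    -- congruences
    obtain ⟨k, hk⟩ := IsPGroup.iff_card.1 P.2
    have h16 : (16 : ℤ) ∣ (Nat.card (P : Subgroup G) : ℤ) := by
      have hk3 : 4 ≤ k := by
        by_contra hk4
        have hf := D.cardY
        have : k = 3 := by
          have : 2 ≤ k := by
            by_contra h2
            interval_cases k <;> omega
          interval_cases k <;> omega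
        subst this
        have hdvd : (3 : ℕ) ∣ Nat.card (P : Subgroup G) - 1 := by
          have := Finset.card_eq_sum_card_fiberwise (f := ζ) (s := Finset.univ.erase 1)
            (t := (Set.toFinite Y).toFinset)
            (fun ψ hψ => (Set.Finite.mem_toFinset _).2 (D.zeta_mem ψ (Finset.mem_erase.1 hψ).1))
          rw [Finset.card_erase_of_mem (Finset.mem_univ _), Finset.card_univ,
            ← Nat.card_eq_fintype_card, card_dual h.comm, Finset.sum_const_nat (m := 3) (fun η hη => by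
              obtain ⟨ψ, hψ, rfl⟩ := D.zeta_surj η ((Set.Finite.mem_toFinset _).1 hη)
              rw [← h.card_orb hψ]
              refine congrArg Finset.card (Finset.ext fun φ => ?_)
              rw [Finset.mem_filter, Finset.mem_erase]
              exact ⟨fun hφ => D.zeta_inj ψ φ hψ hφ.1.1 hφ.2, fun hφ =>
                ⟨⟨ne_one_of_mem_orb hψ hφ, Finset.mem_univ _⟩, D.zeta_orb ψ φ hψ hφ⟩⟩)] at this
          exact ⟨_, this.trans (mul_comm _ _)⟩
        omega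
      rw [hk]
      exact_mod_cast (show (2 : ℕ) ^ 4 ∣ 2 ^ k from pow_dvd_pow 2 hk3)
    have hcong : ∀ (χ : Cfsg.IrrCharacter G) (S : ℤ),
        (∑ w ∈ Finset.univ.erase (1 : (P : Subgroup G)), (χ : G → ℂ) (w : G)) = (S : ℂ) →
        (16 : ℤ) ∣ (Cfsg.charDegree (χ : G → ℂ) : ℤ) + S := by
      intro χ S hS
      obtain ⟨e, he⟩ := classInner_char_nat (isCharacter_restrict (P : Subgroup G) (irr_isCharacter χ))
        (isCharacter_linear (1 : (P : Subgroup G) →* ℂˣ))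
      rw [classInner_def, inv_mul_eq_iff_eq_mul₀ natCard_ne_zero,
        ← Finset.add_sum_erase _ _ (Finset.mem_univ (1 : (P : Subgroup G)))] at he
      simp only [MonoidHom.one_apply, Units.val_one, map_one, mul_one, Subgroup.coe_one, hS, hd] at he
      refine h16.trans ⟨e, ?_⟩
      apply Int.cast_injective (α := ℂ)
      push_cast
      exact he
    have hq1 : (Finset.univ.erase (1 : (P : Subgroup G))).card = Nat.card (P : Subgroup G) - 1 := by
      rw [Finset.card_erase_of_mem (Finset.mem_univ _), Finset.card_univ, Nat.card_eq_fintype_card]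
    have hdX : ∀ χ ∈ ({trivIrr G, χ₂, χ₃} : Set (Cfsg.IrrCharacter G)),
        (16 : ℤ) ∣ a χ * Cfsg.charDegree (χ : G → ℂ) - 1 := by
      intro χ hχ
      have h1 := hcong χ (((Nat.card (P : Subgroup G) : ℤ) - 1) * a χ) (by
        rw [Finset.sum_congr rfl (fun w hw => hvX χ hχ w fun e =>
          (Finset.mem_erase.1 hw).1 (Subtype.ext e)), Finset.sum_const, nsmul_eq_mul, hq1,
          Nat.cast_sub (Nat.card_pos)]
        push_cast; ring)
      obtain ⟨j, hj⟩ := h1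
      obtain ⟨i, hi⟩ := h16
      refine ⟨a χ * j - i, ?_⟩
      rcases D.a_sign χ hχ with e | e <;> rw [e] at hj ⊢ <;> linarith
    have hdz : (16 : ℤ) ∣ z + 3 := by
      obtain ⟨ψ, hψ, hψη⟩ := D.zeta_surj η₀ hη₀
      have h1 := hcong η₀ (-3 * δ) (by
        rw [Finset.sum_congr rfl (fun w hw => by
          rw [← hψη, D.valueY ψ hψ (w : G) w
            (SectionOrth.isPPart_self hM.1 (SectionOrth.exists_orderOf_eq P.2 w))
            (fun e => (Finset.mem_erase.1 hw).1 (Subtype.ext e))]), ← Finset.mul_sum, Finset.sum_comm,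
          Finset.sum_congr rfl (fun φ hφ => show
            ∑ w ∈ Finset.univ.erase (1 : (P : Subgroup G)), ((φ w : ℂˣ) : ℂ) = -1 by
              have hs := sum_hom_apply φ
              rw [if_neg (ne_one_of_mem_orb hψ hφ),
                ← Finset.add_sum_erase _ _ (Finset.mem_univ (1 : (P : Subgroup G))), map_one,
                Units.val_one] at hs
              linear_combination hs), Finset.sum_const, h.card_orb hψ]
        push_cast; ring)
      obtain ⟨j, hj⟩ := h1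
      refine ⟨-δ * j, ?_⟩
      rw [hz, hh₀]
      rcases D.sign with e | e <;> rw [e] at hj ⊢ <;> linarith
    have hne1 : ∀ χ ∈ ({trivIrr G, χ₂, χ₃} : Set (Cfsg.IrrCharacter G)), χ ≠ trivIrr G →
        a χ * (Cfsg.charDegree (χ : G → ℂ) : ℤ) ≠ 1 := by
      intro χ hχ hne' e1
      rcases D.a_sign χ hχ with e | e
      · rw [e, one_mul] at e1; exact hno χ hχ hne' (by exact_mod_cast e1) e
      · rw [e] at e1
        have := charDegree_pos χ
        omega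
    exact two_absurd x₂ x₃ z (hdX χ₂ (by simp)) (hdX χ₃ (by simp)) hdz (hne1 χ₂ (by simp) h21)
      (hne1 χ₃ (by simp) h31) m0 m2

/-- The conclusion about the signs and the product of degrees. -/
theorem ThreeData.involution_part (h : Setting P 3) (hM : Cfsg.IsPModular p M)
    (D : ThreeData P M X Y a δ ζ) (hm2 : 3 + 1 < Nat.card (P : Subgroup G)) {t : G}
    (ht : orderOf t = 2) (htK : ∀ K : Subgroup G, K.Normal → t ∈ K → K = ⊤) :
    Nat.card {χ : Cfsg.IrrCharacter G // χ ∈ X ∧ (χ : G → ℂ) ≠ (fun _ => 1) ∧ a χ = -1} +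
      (if δ = 1 then 1 else 0) = 2 ∧
    ∀ η ∈ Y, IsSquare (Cfsg.charDegree (η : G → ℂ) *
      ∏ᶠ χ ∈ {χ : Cfsg.IrrCharacter G | χ ∈ X ∧ (χ : G → ℂ) ≠ fun _ => 1},
        Cfsg.charDegree (χ : G → ℂ)) := by
  classical
  have hp : p.Prime := Fact.out
  have hp2 := D.ne_two h hM hm2 ht htK
  have htreg : ¬ p ∣ orderOf t := by
    rw [ht]; intro hd
    exact hp2 ((Nat.prime_dvd_prime_iff_eq hp Nat.prime_two).1 hd)
  haveI := finite_dual h.comm
  haveI := Fintype.ofFinite ((P : Subgroup G) →* ℂˣ)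
  haveI := Fintype.ofFinite (Cfsg.IrrCharacter G)
  obtain ⟨χ₂, χ₃, hne, h21, h31, hX⟩ := D.exists_triple
  have hmem₂ : χ₂ ∈ X := by rw [hX]; simp
  have hmem₃ : χ₃ ∈ X := by rw [hX]; simp
  have ha₁ := D.a_triv
  have htriv : ((trivIrr G : Cfsg.IrrCharacter G) : G → ℂ) = fun _ => 1 := rfl
  obtain ⟨y, hy⟩ : ∃ y : (P : Subgroup G), y * y ≠ 1 := by
    haveI : Nontrivial (P : Subgroup G) := Finite.one_lt_card_iff_nontrivial.1 (by omega)
    obtain ⟨y, hy⟩ := exists_ne (1 : (P : Subgroup G))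
    refine ⟨y, fun e => hp2 ?_⟩
    obtain ⟨k, hk⟩ := IsPGroup.iff_orderOf.1 P.2 y
    have h2 : orderOf y = 2 := orderOf_eq_prime (by rwa [pow_two]) hy
    rw [h2] at hk
    rcases Nat.eq_zero_or_pos k with rfl | hk0
    · norm_num at hk
    · exact (Nat.prime_dvd_prime_iff_eq hp Nat.prime_two).1 (hk ▸ dvd_pow_self p hk0.ne')
  have hy1 : y ≠ 1 := fun e => hy (by rw [e, one_mul])
  obtain ⟨η₀, hη₀⟩ : Y.Nonempty := by
    obtain ⟨ψ, hψ⟩ := exists_dual_ne_one h.comm hy1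
    exact ⟨_, D.zeta_mem ψ fun e => hψ (by rw [e]; rfl)⟩
  have hone : ¬ p ∣ orderOf (1 : G) := by rw [orderOf_one]; exact hp.not_dvd_one
  have hd : ∀ χ : Cfsg.IrrCharacter G, (χ : G → ℂ) 1 = (Cfsg.charDegree (χ : G → ℂ) : ℂ) :=
    fun χ => (charDegree_cast χ).symm
  obtain ⟨s₂, hs₂, -⟩ := Cfsg.Agent.S0944.result χ₂ t ht
  obtain ⟨s₃, hs₃, -⟩ := Cfsg.Agent.S0944.result χ₃ t ht
  obtain ⟨v, hv, -⟩ := Cfsg.Agent.S0944.result η₀ t ht
  have E0 := D.linear η₀ hη₀ 1 hone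
  have E1 := D.linear η₀ hη₀ t htreg
  rw [hX, finsum_triple (Ne.symm h21) (Ne.symm h31) hne, ha₁, hd, hd, hd, hd] at E0
  rw [hX, finsum_triple (Ne.symm h21) (Ne.symm h31) hne, ha₁, hs₂, hs₃, hv] at E1
  have ht2 : t * t = 1 := by
    have := pow_orderOf_eq_one t; rwa [ht, pow_two] at this
  have E2 := D.square_relation h hM ht2 hy
  rw [hX, finsum_triple (Ne.symm h21) (Ne.symm h31) hne, ha₁, hs₂, hs₃, hd, hd, hd,
    Finset.sum_congr rfl (fun ψ hψ => by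
      rw [D.regular_eq _ (D.zeta_mem ψ (Finset.mem_erase.1 hψ).1) _ hη₀ t htreg,
        D.regular_eq _ (D.zeta_mem ψ (Finset.mem_erase.1 hψ).1) _ hη₀ 1 hone]),
    ← Finset.mul_sum, sum_dual_erase h hy1, hv, hd] at E2
  have hdt : Cfsg.charDegree ((trivIrr G : Cfsg.IrrCharacter G) : G → ℂ) = 1 := by
    simp [Cfsg.charDegree, htriv]
  rw [hdt] at E0 E2
  simp only [htriv, Nat.cast_one, Int.cast_one, one_mul, mul_one, one_pow, div_one] at E0 E1 E2
  set d₂ := Cfsg.charDegree (χ₂ : G → ℂ) with hd₂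
  set d₃ := Cfsg.charDegree (χ₃ : G → ℂ) with hd₃
  set h₀ := Cfsg.charDegree (η₀ : G → ℂ) with hh₀
  have p₂ : 0 < d₂ := charDegree_pos χ₂
  have p₃ : 0 < d₃ := charDegree_pos χ₃
  have p₀ : 0 < h₀ := charDegree_pos η₀
  have c₂ : (d₂ : ℂ) ≠ 0 := Nat.cast_ne_zero.2 p₂.ne'
  have c₃ : (d₃ : ℂ) ≠ 0 := Nat.cast_ne_zero.2 p₃.ne'
  have c₀ : (h₀ : ℂ) ≠ 0 := Nat.cast_ne_zero.2 p₀.ne'
  have sa₂ := D.a_sign χ₂ hmem₂
  have sa₃ := D.a_sign χ₃ hmem₃
  have m0 : 1 + a χ₂ * d₂ + a χ₃ * d₃ + -δ * h₀ = 0 := by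
    apply Int.cast_injective (α := ℂ)
    push_cast
    linear_combination E0
  have m1 : 1 + a χ₂ * s₂ + a χ₃ * s₃ + -δ * v = 0 := by
    apply Int.cast_injective (α := ℂ)
    push_cast
    linear_combination E1
  have m2 : (a χ₂ * d₂) * (a χ₃ * d₃) * (-δ * h₀) + (a χ₂ * s₂) ^ 2 * (a χ₃ * d₃) * (-δ * h₀) +
      (a χ₃ * s₃) ^ 2 * (a χ₂ * d₂) * (-δ * h₀) + (-δ * v) ^ 2 * (a χ₂ * d₂) * (a χ₃ * d₃) = 0 := by
    apply Int.cast_injective (α := ℂ)
    push_cast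
    field_simp at E2
    rcases D.sign with e | e <;> rcases sa₂ with e₂ | e₂ <;> rcases sa₃ with e₃ | e₃ <;>
      simp only [e, e₂, e₃] at E2 ⊢ <;> push_cast at E2 ⊢ <;> first
        | linear_combination E2
        | linear_combination -E2
  have hne2 : a χ₂ * s₂ ≠ a χ₂ * d₂ := by
    intro e
    have e' : s₂ = (d₂ : ℤ) := by rcases sa₂ with e₂ | e₂ <;> rw [e₂] at e <;> linarith
    refine kernel_absurd htK h21 ?_
    rw [hs₂, hd, e', Int.cast_natCast]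
  have n₂ : a χ₂ * (d₂ : ℤ) ≠ 0 := by
    rcases sa₂ with e | e <;> rw [e] <;> omega
  have n₃ : a χ₃ * (d₃ : ℤ) ≠ 0 := by
    rcases sa₃ with e | e <;> rw [e] <;> omega
  have n₀ : -δ * (h₀ : ℤ) ≠ 0 := by
    rcases D.sign with e | e <;> rw [e] <;> omega
  have hsq := isSquare_of_relation (a χ₂ * d₂) (a χ₃ * d₃) (-δ * h₀) (a χ₂ * s₂) (a χ₃ * s₃)
    (-δ * v) n₂ n₃ m0 m1 m2 hne2
  set x₂ : ℝ := ((a χ₂ * d₂ : ℤ) : ℝ) with hx₂
  set x₃ : ℝ := ((a χ₃ * d₃ : ℤ) : ℝ) with hx₃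
  set z : ℝ := ((-δ * h₀ : ℤ) : ℝ) with hz
  have r₂ : x₂ ≠ 0 := Int.cast_ne_zero.2 n₂
  have r₃ : x₃ ≠ 0 := Int.cast_ne_zero.2 n₃
  have r₀ : z ≠ 0 := Int.cast_ne_zero.2 n₀
  have hsg := signs_of_moments x₂ x₃ z (((a χ₂ * s₂ : ℤ) : ℝ) / x₂) (((a χ₃ * s₃ : ℤ) : ℝ) / x₃)
    (((-δ * v : ℤ) : ℝ) / z) r₂ r₃ r₀ (by rw [hx₂, hx₃, hz]; exact_mod_cast m0)
    (by rw [mul_div_cancel₀ _ r₂, mul_div_cancel₀ _ r₃, mul_div_cancel₀ _ r₀]; exact_mod_cast m1)
    (by
      have m2' : x₂ * x₃ * z + ((a χ₂ * s₂ : ℤ) : ℝ) ^ 2 * x₃ * z +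
          ((a χ₃ * s₃ : ℤ) : ℝ) ^ 2 * x₂ * z + ((-δ * v : ℤ) : ℝ) ^ 2 * x₂ * x₃ = 0 := by
        rw [hx₂, hx₃, hz]; exact_mod_cast m2
      field_simp
      linear_combination m2')
    (fun e => hne2 (Int.cast_injective (α := ℝ) ((div_eq_one_iff_eq r₂).1 e)))
  rw [hx₂, hx₃, hz] at hsg
  simp only [Int.cast_pos, Int.cast_lt_zero] at hsg
  have hsigns : (a χ₂ = 1 ∧ a χ₃ = -1 ∧ δ = 1) ∨ (a χ₂ = -1 ∧ a χ₃ = 1 ∧ δ = 1) ∨
      (a χ₂ = -1 ∧ a χ₃ = -1 ∧ δ = -1) := by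
    rcases D.sign with e | e <;> rcases sa₂ with e₂ | e₂ <;> rcases sa₃ with e₃ | e₃ <;>
      rw [e, e₂, e₃] at hsg ⊢ <;> omega
  have hset : ({χ : Cfsg.IrrCharacter G | χ ∈ X ∧ (χ : G → ℂ) ≠ fun _ => 1}) = {χ₂, χ₃} := by
    ext χ
    rw [Set.mem_ofPred_eq, ← htriv, Ne, ← Subtype.ext_iff, hX]
    simp only [Set.mem_insert_iff, Set.mem_singleton_iff]
    constructor
    · rintro ⟨h' | h' | h', hn⟩
      · exact absurd h' hn
      · exact Or.inl h'
      · exact Or.inr h'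
    · rintro (rfl | rfl)
      · exact ⟨Or.inr (Or.inl rfl), h21⟩
      · exact ⟨Or.inr (Or.inr rfl), h31⟩
  constructor
  · have hiff : ∀ χ : Cfsg.IrrCharacter G, (χ ∈ X ∧ (χ : G → ℂ) ≠ (fun _ => 1) ∧ a χ = -1) ↔
        χ ∈ ({χ₂, χ₃} : Finset (Cfsg.IrrCharacter G)).filter fun χ => a χ = -1 := by
      intro χ
      have := Set.ext_iff.1 hset χ
      rw [Set.mem_ofPred_eq, Set.mem_insert_iff, Set.mem_singleton_iff] at this
      rw [Finset.mem_filter, Finset.mem_insert, Finset.mem_singleton, ← this, and_assoc]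
    rw [Nat.card_congr (Equiv.subtypeEquivRight hiff), Nat.card_eq_fintype_card, Fintype.card_coe]
    rcases hsigns with ⟨e₂, e₃, e⟩ | ⟨e₂, e₃, e⟩ | ⟨e₂, e₃, e⟩ <;>
      simp [Finset.filter_insert, Finset.filter_singleton, e₂, e₃, e, hne]
  · intro η hη
    have hη' : Cfsg.charDegree (η : G → ℂ) = h₀ := by
      apply Nat.cast_injective (R := ℂ)
      rw [hh₀, charDegree_cast, charDegree_cast]
      exact D.regular_eq η hη η₀ hη₀ 1 hone
    rw [hset, finprod_mem_pair hne, hη']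
    have hprod : a χ₂ * (d₂ : ℤ) * (a χ₃ * d₃) * (-δ * h₀) = ((h₀ * (d₂ * d₃) : ℕ) : ℤ) := by
      rcases hsigns with ⟨e₂, e₃, e⟩ | ⟨e₂, e₃, e⟩ | ⟨e₂, e₃, e⟩ <;> rw [e₂, e₃, e] <;>
        push_cast <;> ring
    rw [hprod] at hsq
    exact Int.isSquare_natCast_iff.1 hsq

end Cfsg.Agent.BlocksChars.FrobNormalizer
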